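import Groth.Agent.H10Coh.Pn.Global
import Groth.Agent.H10Coh.Affine
import Groth.Agent.H11Tilde.TwistPow

/-!
# Cohomology of `O(d)` on projective space: the statements
-/

universe u

open CategoryTheory CategoryTheory.Limits AlgebraicGeometry TopologicalSpace Opposite MvPolynomial
open Groth.Agent.H11Tilde

namespace Groth.Agent.H10Coh

attribute [local instance 10000] hasSheafifyAb hasWeakSheafifyAb hasExtAb enoughInjAb

/-- `H⁰` as sections, on the prelude's group. -/
noncomputable def HH0Equiv {X : Scheme.{u}} (M : X.Modules) : Coh.HH X M 0 ≃+ Γ(M, ⊤) :=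
  (HHEquiv M 0).trans (H0Equiv (sh M) ⊤)

theorem HH0Equiv_smul {X : Scheme.{u}} (M : X.Modules) (r : Γ(X, ⊤)) (x : Coh.HH X M 0) :
    HH0Equiv M ((show Coh.Γtop X from r) • x) = r • HH0Equiv M x := by
  change H0Equiv (sh M) ⊤ (topEquiv (sh M) 0 (Sheaf.H.map (Coh.smulAb M r) 0 x)) = _
  rw [topEquiv_map]
  refine (H0Equiv_map (F := sh M) (G := sh M) (Coh.smulAb M r) _).trans ?_
  refine congrArg (fun c : Γ(X, ⊤) => c • HH0Equiv M x)
    (show (Coh.resTop X (op ⊤) r : Γ(X, ⊤)) = r from ?_)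
  exact (ConcreteCategory.congr_hom (X.ringCatSheaf.obj.map_id (op ⊤)) r :)

theorem subsingleton_HH_of_iso {X : Scheme.{u}} {M N : X.Modules} (e : M ≅ N) (q : ℕ)
    (h : Subsingleton (Coh.HH X M q)) : Subsingleton (Coh.HH X N q) := by
  have h' : Subsingleton (Sheaf.H.{u} ((shF X).obj M) q) := h
  refine Function.Surjective.subsingleton (f := fun x : Sheaf.H.{u} ((shF X).obj M) q => Sheaf.H.map ((shF X).map e.hom) q x)
    fun y => ⟨Sheaf.H.map ((shF X).map e.inv) q y, ?_⟩
  change Sheaf.H.map ((shF X).map e.hom) q (Sheaf.H.map ((shF X).map e.inv) q y) = y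
  exact (Sheaf.H.map_comp_apply _ _ _).symm.trans (by
    rw [← Functor.map_comp, e.inv_hom_id, CategoryTheory.Functor.map_id, Sheaf.H.map_id_apply])

namespace Pn

variable {n : ℕ} {R : Type u} [CommRing R] {d : ℤ}

theorem subsingleton_sections_of_neg (hn : n ≠ 0) (hd : d < 0) : Subsingleton Γ(Od n R d, ⊤) := by
  refine subsingleton_of_forall_eq 0 fun σ => psiG_injective ?_
  rw [map_zero]
  refine AddMonoidAlgebra.ext (Finsupp.ext fun e => ?_)
  by_contra h
  obtain ⟨h1, h2⟩ := psiG_mem σ (Or.inl hn) e (by simpa using h)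
  have : 0 ≤ deg e := Finset.sum_nonneg fun i _ => h2 i (Set.notMem_empty i)
  omega

/-- The vanishing pattern. -/
theorem subsingleton_HH_Od (q : ℕ) (h₀ : ¬ (q = 0 ∧ 0 ≤ d)) (hn : ¬ (q = n ∧ d ≤ -((n : ℤ) + 1))) :
    Subsingleton (Coh.HH (Proj (Gr n R)) (Od n R d) q) := by
  cases q with
  | zero =>
    have hd : d < 0 := by
      by_contra h
      exact h₀ ⟨rfl, not_lt.1 h⟩
    have hn0 : n ≠ 0 := fun h => hn ⟨h.symm, by subst h; simp; omega⟩
    exact @Equiv.subsingleton _ _ (HH0Equiv (Od n R d)).toEquiv (subsingleton_sections_of_neg hn0 hd)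
  | succ p =>
    refine @Equiv.subsingleton _ _ (HHEquiv (Od n R d) (p + 1)).toEquiv ?_
    rcases Nat.lt_trichotomy (p + 1) n with h | h | h
    · exact subsingleton_HnM_Od_succ (Or.inl (by omega))
    · refine subsingleton_HnM_Od_succ (Or.inr ?_)
      by_contra hd
      exact hn ⟨h, by omega⟩
    · have := isQuasicoherent_Od (n := n) (R := R) (d := d)
      exact subsingleton_HnM_proj _ h

theorem subsingleton_HH_structureModule (n : ℕ) (R : Type u) [CommRing R] (q : ℕ) (hq : 0 < q) :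
    Subsingleton (Coh.HH (Proj (Gr n R)) (Coh.structureModule (Proj (Gr n R))) q) := by
  obtain ⟨e⟩ := nonempty_twist_zero_iso (Gr n R)
  refine subsingleton_HH_of_iso (M := Od n R 0) e q (subsingleton_HH_Od q ?_ ?_)
  · omega
  · omega

/-- Polynomials of degree `d` as Laurent polynomials. -/
noncomputable def homToAllowed (n : ℕ) (R : Type u) [CommRing R] (d : ℕ) :
    ↥(homogeneousSubmodule (Fin (n + 1)) R d) →ₗ[R] ↥(allowedSub R (d : ℤ) (∅ : Set (Fin (n + 1)))) where
  toFun m := ⟨toL n R m.1, by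
    simpa [T_zero] using toL_mul_T_mem (S := (∅ : Set (Fin (n + 1)))) m.2 0 (show (d : ℤ) = _ by simp)
      (fun j _ => rfl)⟩
  map_add' a b := Subtype.ext (map_add _ _ _)
  map_smul' r a := Subtype.ext (by
    simp only [SetLike.val_smul, RingHom.id_apply]
    rw [MvPolynomial.smul_eq_C_mul, map_mul, C_apply, toL_monomial, map_zero]
    exact (Algebra.smul_def r _).symm)

theorem homToAllowed_bijective (d : ℕ) : Function.Bijective (homToAllowed n R d) := by
  refine ⟨fun a b h => Subtype.ext (toL_injective n R (congrArg Subtype.val h)), fun z => ?_⟩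
  obtain ⟨N, hN⟩ := exists_polynomial_of_mem z.2 0 (fun j hj => hj.elim)
  obtain ⟨i, m, hm, hmz, hdeg⟩ := hN N le_rfl
  rcases hdeg with hdeg | hz
  · have hi : i = d := by simpa using hdeg
    subst hi
    exact ⟨⟨m, hm⟩, Subtype.ext (show toL n R m = _ by simpa [T_zero] using hmz)⟩
  · exact ⟨0, by rw [map_zero]; exact (Subtype.ext hz).symm⟩

/-- Global sections of `O(d)`, linearly. -/
noncomputable def HH0Od (n : ℕ) (R : Type u) [CommRing R] (d : ℕ) :
    letI : (Proj (Gr n R)).Over (Spec (CommRingCat.of R)) := ⟨toS n R⟩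
    Coh.HH (Proj (Gr n R)) (Od n R d) 0 →ₗ[R] ↥(allowedSub R (d : ℤ) (∅ : Set (Fin (n + 1)))) :=
  letI : (Proj (Gr n R)).Over (Spec (CommRingCat.of R)) := ⟨toS n R⟩
  { toFun := fun x => ⟨psiG (HH0Equiv _ x), psiG_mem _ (Or.inr (Int.natCast_nonneg d))⟩
    map_add' := fun a b => Subtype.ext (by simp)
    map_smul' := fun r x => Subtype.ext (by
      change psiG (HH0Equiv _ ((show Coh.Γtop (Proj (Gr n R)) from constΓ r) • x)) = _
      rw [HH0Equiv_smul, psiG_smul]
      rfl) }

theorem HH0Od_bijective (d : ℕ) : Function.Bijective (HH0Od n R d) := by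
  refine ⟨fun a b h => (HH0Equiv _).injective (psiG_injective (congrArg Subtype.val h)), fun z => ?_⟩
  obtain ⟨σ, hσ⟩ := psiG_range z.1 z.2
  exact ⟨(HH0Equiv _).symm σ, Subtype.ext ((congrArg psiG ((HH0Equiv _).apply_symm_apply σ)).trans hσ)⟩

theorem bijective_constΓ : Function.Bijective (constΓ (n := n) (R := R)) := by
  have h1 : (1 : MvPolynomial (Fin (n + 1)) R) ∈ Gr n R 0 := SetLike.one_mem_graded _
  let g : Γ(Od n R 0, ⊤) := secOf (Gr n R) (Gr n R) h1 h1 (fun x _ => one_notMem (Gr n R) x) (by simp)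
  have hg : psiG g = 1 := by
    refine psi_eq (degree_qa_pos _) (IsRep.res le_top ⟨0, 1, 0,
      fun x _ => by simpa [mon] using one_notMem (Gr n R) x, h1, by simp, by simp [T_zero],
      fun x => fracAt_congr (Gr n R) x.1 _ _ rfl (show (1 : MvPolynomial (Fin (n + 1)) R) = mon 0 by simp [mon])⟩)
  have hb : Function.Bijective fun c : Γ(Proj (Gr n R), ⊤) => c • g :=
    bijective_smul_gen (Gr n R) h1 h1 (fun x _ => one_notMem (Gr n R) x)
      (fun x _ => one_notMem (Gr n R) x) (by simp) g fun y => rfl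
  refine ⟨fun r s h => ?_, fun c => ?_⟩
  · have := congrArg (fun c => (psiG (c • g)).coeff 0) h
    simpa [psiG_smul, hg, AddMonoidAlgebra.one_def] using this
  · refine ⟨(psiG (c • g)).coeff 0, hb.1 (psiG_injective ?_)⟩
    rw [psiG_smul, hg]
    refine AddMonoidAlgebra.ext (Finsupp.ext fun e => ?_)
    by_cases he : e = 0
    · subst he
      simp [AddMonoidAlgebra.one_def]
    · have h0 : (psiG (c • g)).coeff e = 0 := by
        by_contra h
        obtain ⟨hd, hp⟩ := psiG_mem (c • g) (Or.inr le_rfl) e h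
        refine he (Finsupp.ext fun i => ?_)
        exact (Finset.sum_eq_zero_iff_of_nonneg fun j _ => hp j (Set.notMem_empty j)).1 hd i (Finset.mem_univ i)
      simp [AddMonoidAlgebra.one_def, h0, he, Ne.symm he]

theorem isIso_toS_appTop (n : ℕ) (R : Type u) [CommRing R] : IsIso (toS n R).appTop := by
  have h : IsIso ((Scheme.ΓSpecIso (CommRingCat.of R)).inv ≫ (toS n R).appTop) :=
    (ConcreteCategory.isIso_iff_bijective _).2 (bijective_constΓ (n := n) (R := R))
  exact IsIso.of_isIso_comp_left (Scheme.ΓSpecIso (CommRingCat.of R)).inv _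

end Pn

end Groth.Agent.H10Coh
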