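import Groth.Agent.H10Coh.Pn.Top

/-!
# The top cohomology as homogeneous polynomials
-/

universe u

open CategoryTheory CategoryTheory.Limits AlgebraicGeometry TopologicalSpace Opposite MvPolynomial

namespace Groth.Agent.H10Coh.Pn

attribute [local instance 10000] hasSheafifyAb hasWeakSheafifyAb hasExtAb enoughInjAb

variable {R : Type u} [CommRing R]

/-- The shift `q ↦ -q - 1` of exponents. -/
noncomputable def negShift (n : ℕ) (q : Fin (n + 1) →₀ ℕ) : Expo n :=
  Finsupp.equivFunOnFinite.symm fun i => -(q i : ℤ) - 1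

theorem negShift_injective (n : ℕ) : Function.Injective (negShift n) := fun q q' h =>
  Finsupp.ext fun i => by
    have := DFunLike.congr_fun h i
    simp [negShift] at this
    omega

theorem deg_negShift (n : ℕ) (q : Fin (n + 1) →₀ ℕ) :
    deg (negShift n q) = -(q.degree : ℤ) - (n + 1) := by
  rw [Finsupp.degree_eq_sum, Nat.cast_sum, deg]
  simp [negShift, Finset.sum_sub_distrib, Finset.sum_neg_distrib]

/-- Homogeneous polynomials as residues. -/
noncomputable def homToBad (n k : ℕ) :
    ↥(homogeneousSubmodule (Fin (n + 1)) R k) →ₗ[R] ↥(badSub R (-((n : ℤ) + 1 + k)) n) where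
  toFun m := ⟨AddMonoidAlgebra.ofCoeff (Finsupp.mapDomain (negShift n) (AddMonoidAlgebra.coeff m.1)), fun e he => by
    classical
    rw [AddMonoidAlgebra.coeff_ofCoeff] at he
    obtain ⟨q, hq, rfl⟩ := Finset.mem_image.1 (Finsupp.mapDomain_support (Finsupp.mem_support_iff.2 he))
    have hk : q.degree = k := by
      rw [Finsupp.degree_eq_weight_one]
      exact m.2 (Finsupp.mem_support_iff.1 hq)
    refine ⟨fun i => by simp [negShift]; omega, ?_⟩
    rw [deg_negShift, hk]
    ring⟩
  map_add' a b := Subtype.ext (AddMonoidAlgebra.ext (by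
    change Finsupp.mapDomain (negShift n) (AddMonoidAlgebra.coeff a.1 + AddMonoidAlgebra.coeff b.1) = _
    exact Finsupp.mapDomain_add))
  map_smul' r a := Subtype.ext (AddMonoidAlgebra.ext (Finsupp.mapDomain_smul r _))

theorem homToBad_bijective (n k : ℕ) : Function.Bijective (homToBad (R := R) n k) := by
  refine ⟨fun a b h => Subtype.ext (AddMonoidAlgebra.ext (Finsupp.mapDomain_injective (negShift_injective n)
    (congrArg (fun z : ↥(badSub R (-((n : ℤ) + 1 + k)) n) => AddMonoidAlgebra.coeff z.1) h :))), fun z => ?_⟩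
  let g : (Fin (n + 1) →₀ ℕ) →₀ R := (AddMonoidAlgebra.coeff z.1).comapDomain (negShift n) (negShift_injective n).injOn
  have hg : Finsupp.mapDomain (negShift n) g = (AddMonoidAlgebra.coeff z.1) := by
    refine Finsupp.mapDomain_comapDomain _ (negShift_injective n) _ fun e he => ?_
    have h := (z.2 e (Finsupp.mem_support_iff.1 he)).1
    refine ⟨Finsupp.equivFunOnFinite.symm fun i => (-e i - 1).toNat, Finsupp.ext fun i => ?_⟩
    have := h i
    simp [negShift]
    omega
  refine ⟨⟨AddMonoidAlgebra.ofCoeff g, fun q hq => ?_⟩, Subtype.ext (AddMonoidAlgebra.ext hg)⟩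
  have h := (z.2 (negShift n q) hq).2
  rw [deg_negShift] at h
  have : q.degree = k := by omega
  rwa [Finsupp.degree_eq_weight_one] at this

theorem Dm_zero_eq_top : Dm (n := 0) (R := R) (qa (fun _ : Fin 1 => (0 : Fin 1))) = ⊤ := by
  refine eq_top_iff.2 ((iSup_Us (n := 0) (R := R)).ge.trans (iSup_le fun i => ?_))
  have h : (fun _ : Fin 1 => (0 : Fin 1)) = ULift.down ∘ (fun _ : Fin 1 => i) :=
    funext fun _ => Subsingleton.elim _ _
  rw [h, Dm_qa]
  exact le_iInf fun _ => le_rfl

/-- `H⁰` on `P⁰`, linearly. -/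
noncomputable def HHzeroBad (R : Type u) [CommRing R] (d : ℤ) (hd : d < 0) :
    letI : (Proj (Gr 0 R)).Over (Spec (CommRingCat.of R)) := ⟨toS 0 R⟩
    Coh.HH (Proj (Gr 0 R)) (Od 0 R d) 0 →ₗ[R] ↥(badSub R d 0) :=
  letI : (Proj (Gr 0 R)).Over (Spec (CommRingCat.of R)) := ⟨toS 0 R⟩
  { toFun := fun x => ⟨psiG (HH0Equiv _ x), fun e he => by
      have h := psi_mem (degree_qa_pos (fun _ : Fin 1 => (0 : Fin 1)))
        ((Od 0 R d).presheaf.map (homOfLE le_top).op (HH0Equiv _ x)) e he
      refine ⟨fun i => ?_, h.1⟩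
      have h1 := h.1
      rw [deg, Fin.sum_univ_one] at h1
      rw [show i = 0 from Fin.ext (by omega), h1]
      exact hd⟩
    map_add' := fun a b => Subtype.ext (by simp)
    map_smul' := fun r x => Subtype.ext (by
      change psiG (HH0Equiv _ ((show Coh.Γtop (Proj (Gr 0 R)) from constΓ r) • x)) = _
      rw [HH0Equiv_smul, psiG_smul]
      rfl) }

theorem HHzeroBad_bijective (R : Type u) [CommRing R] (d : ℤ) (hd : d < 0) :
    Function.Bijective (HHzeroBad R d hd) := by
  refine ⟨fun a b h => (HH0Equiv _).injective (psiG_injective (congrArg Subtype.val h)), fun z => ?_⟩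
  obtain ⟨σ, hσ⟩ := psi_range (d := d) (q₀ := qa (fun _ : Fin 1 => (0 : Fin 1))) (degree_qa_pos _)
    (z := z.1) fun e he => ⟨(z.2 e he).2, fun i hi => (hi (by
      rw [Set.mem_setOf_eq, qa_pos_iff]
      exact ⟨0, Fin.ext (by omega)⟩)).elim⟩
  refine ⟨(HH0Equiv _).symm ((Od 0 R d).presheaf.map (homOfLE (Dm_zero_eq_top (R := R)).ge).op σ),
    Subtype.ext ?_⟩
  refine (congrArg psiG ((HH0Equiv _).apply_symm_apply _)).trans (Eq.trans ?_ hσ)
  refine congrArg (psi _) ((pmap_pmap (Od 0 R d) _ _ σ).trans ?_)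
  exact (ConcreteCategory.congr_hom ((Od 0 R d).presheaf.map_id _) σ :)

end Groth.Agent.H10Coh.Pn
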