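import Groth.Agent.H10Coh.Pn.Hyper
import Groth.Agent.LeadPic.ProjGeneric

/-!
# The dimensions of the cohomology of a hypersurface
-/

set_option autoImplicit false
set_option linter.style.haveILetI false
set_option backward.isDefEq.respectTransparency.types false

noncomputable section

universe u

open CategoryTheory CategoryTheory.Limits AlgebraicGeometry TopologicalSpace
open Groth.Agent.LeadFF

namespace Groth.Agent.H10Coh.Hyper

variable (F : Type u) [Field F]

theorem isIntegral_pn (N : ℕ) : IsIntegral (CohB1.ProjSpace N F) where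
  nonempty := ⟨(LeadPic.genericPt (CohB1.polyGrading N F) Nat.one_pos (MvPolynomial.isHomogeneous_X F 0)
    (MvPolynomial.X_ne_zero (0 : Fin (N + 1))) : Proj (CohB1.polyGrading N F))⟩
  component_integral U hU := by
    obtain ⟨⟨x, hx⟩⟩ := hU
    have hη := LeadPic.genericPt_mem (CohB1.polyGrading N F) Nat.one_pos (MvPolynomial.isHomogeneous_X F 0)
      (MvPolynomial.X_ne_zero (0 : Fin (N + 1))) (x := x) hx
    exact (LeadPic.evF_injective _ _ _ _ hη).isDomain (LeadPic.evF _ _ _ _ hη)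

theorem finrank_H0 {N : ℕ} (hN : N ≠ 0) (m : ℤ) :
    Module.Finite F (Coh.HH (CohB1.ProjSpace N F) (Twist.twistProjSpace N F m) 0) ∧
      Module.finrank F (Coh.HH (CohB1.ProjSpace N F) (Twist.twistProjSpace N F m) 0) =
        Nat.choose (m + (N : ℤ)).toNat N := by
  rcases lt_or_ge m 0 with h | h
  · haveI := PnHodge.subsingleton_twist N F m 0 (by omega) (by omega)
    exact ⟨inferInstance, by rw [Module.finrank_zero_of_subsingleton, Nat.choose_eq_zero_of_lt (by omega)]⟩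
  · lift m to ℕ using h
    obtain ⟨e⟩ := S0843.result F N m
    obtain ⟨hf, hd⟩ := H3CAlg.finrank_homogeneous (k := F) N m
    exact ⟨Module.Finite.equiv e.symm, by rw [e.finrank_eq, hd]; rfl⟩

theorem finrank_top {N : ℕ} (hN : N ≠ 0) (m : ℤ) :
    Module.Finite F (Coh.HH (CohB1.ProjSpace N F) (Twist.twistProjSpace N F m) N) ∧
      Module.finrank F (Coh.HH (CohB1.ProjSpace N F) (Twist.twistProjSpace N F m) N) =
        Nat.choose (-m - 1).toNat N := by
  rcases lt_or_ge (-((N : ℤ) + 1)) m with h | h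
  · haveI := PnHodge.subsingleton_twist N F m N (by omega) (by omega)
    exact ⟨inferInstance, by rw [Module.finrank_zero_of_subsingleton, Nat.choose_eq_zero_of_lt (by omega)]⟩
  · obtain ⟨j, rfl⟩ : ∃ j : ℕ, m = -((N : ℤ) + 1 + j) := ⟨(-m - N - 1).toNat, by omega⟩
    obtain ⟨e⟩ := S0845.result F N j
    obtain ⟨hf, hd⟩ := H3CAlg.finrank_homogeneous (k := F) N j
    exact ⟨Module.Finite.equiv e.symm, by
      rw [e.finrank_eq, hd, show (-(-((N : ℤ) + 1 + j)) - 1).toNat = j + N by omega]⟩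

variable {d k : ℕ} {I : (CohB1.ProjSpace (d + 1) F).IdealSheafData}

theorem exists_seq_pn (hI : Nonempty (ClSub.idealMod I ≅ Twist.twistProjSpace (d + 1) F (-(k : ℤ)))) (n : ℤ) :
    ∃ (f : Twist.twistProjSpace (d + 1) F (n - k) ⟶ Twist.twistProjSpace (d + 1) F n)
      (g : Twist.twistProjSpace (d + 1) F n ⟶
        CohB1.tensorMod (ClSub.quotMod I) (Twist.twistProjSpace (d + 1) F n)) (w : f ≫ g = 0),
      (ShortComplex.mk f g w).ShortExact := by
  obtain ⟨e⟩ := hI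
  obtain ⟨a⟩ := H11Tilde.nonempty_twist_tensor_iso _ (H22Alg.RegSheaf.cover (d + 1) F) (-(k : ℤ)) n (n - k)
    (by ring)
  exact exists_seq I (H22Alg.RegSheaf.isInvertible_twistProjSpace _ _ n)
    (PicGrp.tensorModIso e (Iso.refl _) ≪≫ a) (Tw.leftUnitIso _)

theorem subsingleton_top_pn (hI : Nonempty (ClSub.idealMod I ≅ Twist.twistProjSpace (d + 1) F (-(k : ℤ)))) (n : ℤ) :
    Subsingleton (Coh.HH (CohB1.ProjSpace (d + 1) F)
      (CohB1.tensorMod (ClSub.quotMod I) (Twist.twistProjSpace (d + 1) F n)) (d + 1)) := by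
  obtain ⟨e⟩ := hI
  haveI : IsIntegral (CohB1.ProjSpace (d + 1) F) := isIntegral_pn F (d + 1)
  haveI : IsNoetherian (CohB1.ProjSpace (d + 1) F) := ProjQ.isNoetherian_proj (Pn.Gr (d + 1) F)
  exact subsingleton_quot_top I (S10829.result F (d + 1)).le (H22Alg.RegSheaf.isInvertible_twistProjSpace _ _ n)
    (exists_notMem_range I (H22Alg.RegSheaf.isInvertible_twistProjSpace _ _ _) e)

theorem dims_generic {X : Scheme.{u}} [X.Over (Spec (CommRingCat.of F))] {S : ShortComplex X.Modules}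
    (hS : S.ShortExact) {d a b a' b' : ℕ} (hQ : Subsingleton (Coh.HH X S.X₃ (d + 1)))
    (h₁ : ∀ q, 0 < q → q ≠ d + 1 → Subsingleton (Coh.HH X S.X₁ q))
    (h₂ : ∀ q, 0 < q → q ≠ d + 1 → Subsingleton (Coh.HH X S.X₂ q))
    (hA : Module.Finite F (Coh.HH X S.X₁ 0) ∧ Module.finrank F (Coh.HH X S.X₁ 0) = a)
    (hB : Module.Finite F (Coh.HH X S.X₂ 0) ∧ Module.finrank F (Coh.HH X S.X₂ 0) = b)
    (hA' : Module.Finite F (Coh.HH X S.X₁ (d + 1)) ∧ Module.finrank F (Coh.HH X S.X₁ (d + 1)) = a')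
    (hB' : Module.Finite F (Coh.HH X S.X₂ (d + 1)) ∧ Module.finrank F (Coh.HH X S.X₂ (d + 1)) = b') :
    (∀ p : ℕ, p ≠ 0 → p ≠ d → Subsingleton (Coh.HH X S.X₃ p)) ∧
    (Module.Finite F (Coh.HH X S.X₃ 0) ∧
      Module.finrank F (Coh.HH X S.X₃ 0) = (b - a) + if d = 0 then a' - b' else 0) ∧
    (0 < d → Module.Finite F (Coh.HH X S.X₃ d) ∧ Module.finrank F (Coh.HH X S.X₃ d) = a' - b') := by
  obtain ⟨fA, dA⟩ := hA
  obtain ⟨fB, dB⟩ := hB
  obtain ⟨fA', dA'⟩ := hA'
  obtain ⟨fB', dB'⟩ := hB'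
  have hr0 : Module.finrank F (LinearMap.range (Hmₗ (F := F) S.f 0)) = a :=
    (LinearMap.finrank_range_of_inj (HHSeq.injective_Hm_zero hS)).trans dA
  have hrN : Module.finrank F (LinearMap.range (Hmₗ (F := F) S.f (d + 1))) = b' := by
    have hsurj : LinearMap.range (Hmₗ (F := F) S.f (d + 1)) = ⊤ :=
      eq_top_iff.2 fun x _ => exists_Hm_f hS (d + 1) x (hQ.elim _ _)
    rw [hsurj, _root_.finrank_top, dB']
  refine ⟨fun p hp hpd => ?_, ?_, fun hd => ?_⟩
  · rcases eq_or_ne p (d + 1) with rfl | hp'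
    · exact hQ
    · exact HHSeq.subsingleton₃ hS (h₂ p (Nat.pos_of_ne_zero hp) hp') (h₁ (p + 1) (by omega) (by omega))
  · rcases Nat.eq_zero_or_pos d with rfl | hd
    · haveI := fA; haveI := fB; haveI := fA'; haveI := fB'
      obtain ⟨h1, h2⟩ := finrank_X₃ hS 0 hr0 hrN
      refine ⟨h1, h2.trans ?_⟩
      rw [if_pos rfl, dB, dA']
    · haveI := fA; haveI := fB
      haveI := h₁ 1 one_pos (by omega)
      haveI := h₂ 1 one_pos (by omega)
      obtain ⟨h1, h2⟩ := finrank_X₃ hS 0 hr0 (r₂ := 0)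
        ((LinearMap.range (Hmₗ (F := F) S.f 1)).finrank_eq_zero.2 (Subsingleton.elim _ _))
      refine ⟨h1, h2.trans ?_⟩
      rw [if_neg hd.ne', dB, Module.finrank_zero_of_subsingleton]
  · haveI := fA'; haveI := fB'
    haveI := h₁ d hd (by omega)
    haveI := h₂ d hd (by omega)
    obtain ⟨h1, h2⟩ := finrank_X₃ hS d (r₁ := 0)
      ((LinearMap.range (Hmₗ (F := F) S.f d)).finrank_eq_zero.2 (Subsingleton.elim _ _)) hrN
    refine ⟨h1, h2.trans ?_⟩
    rw [dA', Module.finrank_zero_of_subsingleton]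
    simp

theorem dims_generic' {X : Scheme.{u}} [X.Over (Spec (CommRingCat.of F))] {A B C : X.Modules} {f : A ⟶ B}
    {g : B ⟶ C} {w : f ≫ g = 0} (hS : (ShortComplex.mk f g w).ShortExact) {d a b a' b' : ℕ}
    (hQ : Subsingleton (Coh.HH X C (d + 1)))
    (h₁ : ∀ q, 0 < q → q ≠ d + 1 → Subsingleton (Coh.HH X A q))
    (h₂ : ∀ q, 0 < q → q ≠ d + 1 → Subsingleton (Coh.HH X B q))
    (hA : Module.Finite F (Coh.HH X A 0) ∧ Module.finrank F (Coh.HH X A 0) = a)
    (hB : Module.Finite F (Coh.HH X B 0) ∧ Module.finrank F (Coh.HH X B 0) = b)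
    (hA' : Module.Finite F (Coh.HH X A (d + 1)) ∧ Module.finrank F (Coh.HH X A (d + 1)) = a')
    (hB' : Module.Finite F (Coh.HH X B (d + 1)) ∧ Module.finrank F (Coh.HH X B (d + 1)) = b') :
    (∀ p : ℕ, p ≠ 0 → p ≠ d → Subsingleton (Coh.HH X C p)) ∧
    (Module.Finite F (Coh.HH X C 0) ∧
      Module.finrank F (Coh.HH X C 0) = (b - a) + if d = 0 then a' - b' else 0) ∧
    (0 < d → Module.Finite F (Coh.HH X C d) ∧ Module.finrank F (Coh.HH X C d) = a' - b') :=
  dims_generic F (S := ShortComplex.mk f g w) hS hQ h₁ h₂ hA hB hA' hB'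

theorem subsingleton_mid (m : ℤ) (q : ℕ) (h : 0 < q) (h' : q ≠ d + 1) :
    Subsingleton (Coh.HH (CohB1.ProjSpace (d + 1) F) (Twist.twistProjSpace (d + 1) F m) q) :=
  PnHodge.subsingleton_twist (d + 1) F m q (fun e => h.ne' e.1) (fun e => h' e.1)

/-- The dimensions, in terms of binomial coefficients. -/
theorem cohomology_hypersurface (hI : Nonempty (ClSub.idealMod I ≅ Twist.twistProjSpace (d + 1) F (-(k : ℤ))))
    (n : ℤ) : (∀ p : ℕ, p ≠ 0 → p ≠ d →
      Subsingleton (Coh.HH (CohB1.ProjSpace (d + 1) F)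
        (CohB1.tensorMod (ClSub.quotMod I) (Twist.twistProjSpace (d + 1) F n)) p)) ∧
    (Module.Finite F (Coh.HH (CohB1.ProjSpace (d + 1) F)
        (CohB1.tensorMod (ClSub.quotMod I) (Twist.twistProjSpace (d + 1) F n)) 0) ∧
      Module.finrank F (Coh.HH (CohB1.ProjSpace (d + 1) F)
        (CohB1.tensorMod (ClSub.quotMod I) (Twist.twistProjSpace (d + 1) F n)) 0) =
        (Nat.choose (n + ((d + 1 : ℕ) : ℤ)).toNat (d + 1) - Nat.choose (n - (k : ℤ) + ((d + 1 : ℕ) : ℤ)).toNat (d + 1)) +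
        if d = 0 then Nat.choose (-(n - (k : ℤ)) - 1).toNat (d + 1) - Nat.choose (-n - 1).toNat (d + 1) else 0) ∧
    (0 < d → Module.Finite F (Coh.HH (CohB1.ProjSpace (d + 1) F)
        (CohB1.tensorMod (ClSub.quotMod I) (Twist.twistProjSpace (d + 1) F n)) d) ∧
      Module.finrank F (Coh.HH (CohB1.ProjSpace (d + 1) F)
        (CohB1.tensorMod (ClSub.quotMod I) (Twist.twistProjSpace (d + 1) F n)) d) =
        Nat.choose (-(n - (k : ℤ)) - 1).toNat (d + 1) - Nat.choose (-n - 1).toNat (d + 1)) := by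
  obtain ⟨f, g, w, hS⟩ := exists_seq_pn F hI n
  exact dims_generic' F hS (subsingleton_top_pn F hI n)
    (fun q => subsingleton_mid F (n - k) q) (fun q => subsingleton_mid F n q)
    (finrank_H0 F (N := d + 1) d.succ_ne_zero (n - k)) (finrank_H0 F (N := d + 1) d.succ_ne_zero n) (finrank_top F (N := d + 1) d.succ_ne_zero (n - k))
    (finrank_top F (N := d + 1) d.succ_ne_zero n)

end Groth.Agent.H10Coh.Hyper
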