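import Groth.Agent.H10Coh.Pn.Sections
import Groth.Agent.H10Coh.CechAffine
import Groth.Agent.H10Coh.Bounded
import Groth.Agent.H11Proj.ProjSpace

/-!
# Vanishing of the cohomology of `O(d)` on projective space
-/

universe u

open CategoryTheory CategoryTheory.Limits AlgebraicGeometry TopologicalSpace Opposite MvPolynomial
open Groth.Agent.H15Site

namespace Groth.Agent.H10Coh.Pn

attribute [local instance 10000] hasSheafifyAb hasWeakSheafifyAb hasExtAb enoughInjAb

variable {n : ℕ} {R : Type u} [CommRing R] {d : ℤ}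

/-- The exponent of `∏ X (a k)`. -/
noncomputable def qa {p : ℕ} (a : Fin (p + 1) → Fin (n + 1)) : Fin (n + 1) →₀ ℕ :=
  ∑ k, Finsupp.single (a k) 1

theorem degree_qa {p : ℕ} (a : Fin (p + 1) → Fin (n + 1)) : (qa a).degree = p + 1 := by
  simp [qa]

theorem degree_qa_pos {p : ℕ} (a : Fin (p + 1) → Fin (n + 1)) : 0 < (qa a).degree := by
  rw [degree_qa]; omega

theorem qa_pos_iff {p : ℕ} (a : Fin (p + 1) → Fin (n + 1)) (j : Fin (n + 1)) :
    0 < qa a j ↔ j ∈ Set.range a := by
  simp [qa, Finsupp.single_apply, Finset.filter_nonempty_iff, eq_comm]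

theorem mon_qa {p : ℕ} (a : Fin (p + 1) → Fin (n + 1)) :
    (mon (qa a) : MvPolynomial (Fin (n + 1)) R) = ∏ k, X (a k) := by
  rw [mon, qa, monomial_sum_one]
  rfl

/-- The standard covering. -/
noncomputable def Us (n : ℕ) (R : Type u) [CommRing R] : ULift.{u} (Fin (n + 1)) → (Proj (Gr n R)).Opens :=
  fun i => Proj.basicOpen (Gr n R) (X i.down)

theorem Dm_qa {p : ℕ} (a : Fin (p + 1) → ULift.{u} (Fin (n + 1))) :
    Dm (R := R) (qa (ULift.down ∘ a)) = CechTop.cap (X := (Proj (Gr n R)).toTopCat) (Us n R) a := by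
  refine SetLike.ext fun x => ?_
  rw [show x ∈ CechTop.cap (X := (Proj (Gr n R)).toTopCat) (Us n R) a ↔ ∀ k, x ∈ Us n R (a k) from by
    rw [CechTop.cap, ← Finset.inf_univ_eq_iInf, ← SetLike.mem_coe, Opens.coe_finset_inf]
    simp [Finset.inf_eq_iInf]]
  change mon (qa (ULift.down ∘ a)) ∉ x.asHomogeneousIdeal ↔ _
  rw [mon_qa]
  change (∏ k, X (a k).down) ∉ x.asHomogeneousIdeal.toIdeal ↔ _
  rw [Ideal.IsPrime.prod_mem_iff (hp := x.isPrime)]
  simp only [Finset.mem_univ, true_and, not_exists]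
  rfl

theorem iSup_Us : (⨆ i, Us n R i) = ⊤ := by
  refine eq_top_iff.2 ((Groth.Agent.H11Proj.ProjSpace.iSup_basicOpen n R).ge.trans ?_)
  exact iSup_le fun i => le_iSup (Us n R) ⟨i⟩

/-- The Čech cochains of `O(d)`. -/
noncomputable abbrev Cd (R : Type u) [CommRing R] (d : ℤ) (p : ℕ) : AddCommGrpCat.{u} :=
  CechTop.C (X := (Proj (Gr n R)).toTopCat) (Us n R) (Od n R d).presheaf p

/-- Indices of the Laurent expansion. -/
noncomputable def psiA {p : ℕ} (a : Fin (p + 1) → ULift.{u} (Fin (n + 1))) :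
    (Od n R d).presheaf.obj (op (CechTop.cap (X := (Proj (Gr n R)).toTopCat) (Us n R) a)) →+ L n R :=
  (psi (d := d) (degree_qa_pos (ULift.down ∘ a))).comp
    (CechTop.res (Od n R d).presheaf (Dm_qa a).le)

theorem psiA_res {p p' : ℕ} {a : Fin (p + 1) → ULift.{u} (Fin (n + 1))}
    {b : Fin (p' + 1) → ULift.{u} (Fin (n + 1))}
    (h : CechTop.cap (X := (Proj (Gr n R)).toTopCat) (Us n R) b ≤ CechTop.cap (Us n R) a)
    (σ : (Od n R d).presheaf.obj (op (CechTop.cap (X := (Proj (Gr n R)).toTopCat) (Us n R) a))) :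
    psiA b (CechTop.res (Od n R d).presheaf h σ) = psiA a σ := by
  have hle : Dm (R := R) (qa (ULift.down ∘ b)) ≤ Dm (qa (ULift.down ∘ a)) :=
    (Dm_qa b).le.trans (h.trans (Dm_qa a).ge)
  rw [psiA, psiA, AddMonoidHom.comp_apply, AddMonoidHom.comp_apply]
  refine Eq.trans (congrArg (psi (degree_qa_pos (ULift.down ∘ b))) ?_)
    (psi_res (d := d) (degree_qa_pos (ULift.down ∘ a)) (degree_qa_pos (ULift.down ∘ b)) hle
      (CechTop.res (Od n R d).presheaf (Dm_qa a).le σ))
  change CechTop.res _ _ (CechTop.res _ _ σ) = CechTop.res _ hle (CechTop.res _ _ σ)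
  rw [CechTop.res_res, CechTop.res_res]

/-- The Laurent expansion of a cochain. -/
noncomputable def coef {p : ℕ} (a : Fin (p + 1) → ULift.{u} (Fin (n + 1))) : Cd (n := n) R d p →+ L n R :=
  (psiA a).comp (CechTop.proj (Us n R) (Od n R d).presheaf a).hom

theorem coef_mem {p : ℕ} (a : Fin (p + 1) → ULift.{u} (Fin (n + 1))) (x : Cd (n := n) R d p) :
    coef a x ∈ allowedSub R d (Set.range (ULift.down ∘ a)) := by
  have h := psi_mem (d := d) (degree_qa_pos (ULift.down ∘ a))
    (CechTop.res (Od n R d).presheaf (Dm_qa a).le ((CechTop.proj (Us n R) (Od n R d).presheaf a).hom x))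
  rwa [show {j | 0 < qa (ULift.down ∘ a) j} = Set.range (ULift.down ∘ a) from
    Set.ext fun j => qa_pos_iff _ j] at h

theorem coef_ext {p : ℕ} {x y : Cd (n := n) R d p}
    (h : ∀ a : Fin (p + 1) → ULift.{u} (Fin (n + 1)), coef a x = coef a y) : x = y :=
  CechTop.hom_ext _ _ fun a => by
    have h' := congrArg (CechTop.res (Od n R d).presheaf (Dm_qa a).ge)
      (psi_injective (d := d) (degree_qa_pos (ULift.down ∘ a)) (h a))
    change CechTop.res _ _ (CechTop.res _ _ _) = CechTop.res _ _ (CechTop.res _ _ _) at h'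
    rwa [CechTop.res_res, CechTop.res_res, CechTop.res_self, CechTop.res_self] at h'

theorem exists_coef_eq {p : ℕ} (v : (Fin (p + 1) → ULift.{u} (Fin (n + 1))) → L n R)
    (hv : ∀ a, v a ∈ allowedSub R d (Set.range (ULift.down ∘ a))) :
    ∃ x : Cd (n := n) R d p, ∀ a, coef a x = v a := by
  have hs : ∀ a, ∃ σ, psi (d := d) (degree_qa_pos (ULift.down ∘ a)) σ = v a := fun a => by
    refine psi_range _ ?_
    rw [show {j | 0 < qa (ULift.down ∘ a) j} = Set.range (ULift.down ∘ a) from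
      Set.ext fun j => qa_pos_iff _ j]
    exact hv a
  choose σ hσ using hs
  obtain ⟨x, hx⟩ := CechTop.exists_proj_eq (X := (Proj (Gr n R)).toTopCat) (Us n R) (Od n R d).presheaf
    fun a => CechTop.res (Od n R d).presheaf (Dm_qa a).ge (σ a)
  refine ⟨x, fun a => ?_⟩
  change psi (degree_qa_pos (ULift.down ∘ a)) (CechTop.res _ _ ((CechTop.proj _ _ a).hom x)) = v a
  rw [hx a, CechTop.res_res, CechTop.res_self, hσ]

theorem coef_d {p : ℕ} (x : Cd (n := n) R d p) (c : Fin (p + 2) → ULift.{u} (Fin (n + 1))) :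
    coef c ((CechTop.d (Us n R) (Od n R d).presheaf p).hom x) =
      ∑ j : Fin (p + 2), ((-1 : ℤ) ^ (j : ℕ)) • coef (c ∘ j.succAbove) x := by
  rw [coef, AddMonoidHom.comp_apply, CechTop.proj_d, map_sum]
  refine Finset.sum_congr rfl fun j _ => ?_
  rw [map_zsmul, psiA_res]
  rfl

/-- An exponent with all entries negative. -/
def Bad (e : Expo n) : Prop := ∀ i, e i < 0

/-- An index with nonnegative entry. -/
noncomputable def ch (e : Expo n) : Fin (n + 1) :=
  Classical.epsilon fun i => 0 ≤ e i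

theorem ch_spec {e : Expo n} (h : ¬ Bad e) : 0 ≤ e (ch e) :=
  Classical.epsilon_spec (p := fun i => 0 ≤ e i) (by simpa [Bad] using h)

/-- The coefficient of a cochain. -/
noncomputable def cf {p : ℕ} (x : Cd (n := n) R d p) (a : Fin (p + 1) → ULift.{u} (Fin (n + 1)))
    (e : Expo n) : R := (coef a x).coeff e

theorem cf_eq_zero {p : ℕ} (x : Cd (n := n) R d p) {a : Fin (p + 1) → ULift.{u} (Fin (n + 1))}
    {e : Expo n} (h : e ∉ allowed d (Set.range (ULift.down ∘ a))) : cf x a e = 0 := by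
  by_contra hne
  exact h (coef_mem a x e hne)

theorem cf_d {p : ℕ} (x : Cd (n := n) R d p) (c : Fin (p + 2) → ULift.{u} (Fin (n + 1))) (e : Expo n) :
    cf ((CechTop.d (Us n R) (Od n R d).presheaf p).hom x) c e =
      ∑ j : Fin (p + 2), ((-1 : ℤ) ^ (j : ℕ)) • cf x (c ∘ j.succAbove) e := by
  rw [cf, coef_d]
  rw [AddMonoidAlgebra.coeff_sum, Finsupp.finsetSum_apply]
  exact Finset.sum_congr rfl fun j _ => rfl

open Classical in
/-- Every cochain can be coned off on the good exponents. -/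
theorem exists_cone {p : ℕ} (x : Cd (n := n) R d (p + 1)) :
    ∃ w : Cd (n := n) R d p, ∀ (a : Fin (p + 1) → ULift.{u} (Fin (n + 1))) (e : Expo n),
      ¬ Bad e → cf w a e = cf x (Fin.cons ⟨ch e⟩ a) e := by
  let S : (Fin (p + 1) → ULift.{u} (Fin (n + 1))) → Fin (n + 1) → Set (Expo n) := fun a i =>
    {e | ch e = i ∧ ¬ Bad e ∧ e ∈ allowed d (Set.range (ULift.down ∘ a))}
  obtain ⟨w, hw⟩ := exists_coef_eq (d := d) (fun a => ∑ i : Fin (n + 1),
    AddMonoidAlgebra.ofCoeff ((coef (Fin.cons ⟨i⟩ a) x).coeff.filter (· ∈ S a i))) fun a => by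
      refine Submodule.sum_mem _ fun i _ => ?_
      intro e he
      rw [AddMonoidAlgebra.coeff_ofCoeff, Finsupp.filter_apply] at he
      split_ifs at he with h
      · exact h.2.2
      · exact (he rfl).elim
  refine ⟨w, fun a e he => ?_⟩
  rw [cf, hw]
  simp only [AddMonoidAlgebra.coeff_sum, Finsupp.finsetSum_apply, AddMonoidAlgebra.coeff_ofCoeff,
    Finsupp.filter_apply]
  rw [Finset.sum_eq_single (ch e) (fun i _ hi => if_neg fun h => hi h.1.symm) (by simp)]
  by_cases hal : e ∈ allowed d (Set.range (ULift.down ∘ a))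
  · exact if_pos ⟨rfl, he, hal⟩
  · rw [if_neg fun h => hal h.2.2]
    refine (cf_eq_zero x fun h => hal ⟨h.1, fun i hi => ?_⟩).symm
    by_cases hie : i = ch e
    · exact hie ▸ ch_spec he
    · refine h.2 i ?_
      rintro ⟨k, hk⟩
      cases k using Fin.cases with
      | zero => exact hie hk.symm
      | succ k => exact hi ⟨k, by simpa using hk⟩

theorem cf_cone_d {p : ℕ} (x : Cd (n := n) R d (p + 1)) (w : Cd (n := n) R d p)
    (hw : ∀ (a : Fin (p + 1) → ULift.{u} (Fin (n + 1))) (e : Expo n),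
      ¬ Bad e → cf w a e = cf x (Fin.cons ⟨ch e⟩ a) e)
    (hx : (CechTop.d (Us n R) (Od n R d).presheaf (p + 1)).hom x = 0)
    (c : Fin (p + 2) → ULift.{u} (Fin (n + 1))) {e : Expo n} (he : ¬ Bad e) :
    cf ((CechTop.d (Us n R) (Od n R d).presheaf p).hom w) c e = cf x c e := by
  have h := cf_d x (Fin.cons ⟨ch e⟩ c) e
  rw [hx, Fin.sum_univ_succ] at h
  simp only [CechTop.cons_comp_succAbove_zero, Fin.val_zero, pow_zero, one_smul,
    CechTop.cons_comp_succAbove_succ, Fin.val_succ, pow_succ, mul_neg, mul_one, neg_smul,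
    Finset.sum_neg_distrib] at h
  have h0 : cf (0 : Cd (n := n) R d (p + 2)) (Fin.cons ⟨ch e⟩ c) e = 0 := by simp [cf]
  rw [h0] at h
  rw [cf_d, Finset.sum_congr rfl fun j _ => by rw [hw _ e he]]
  linear_combination h

theorem isZero_cechH_succ {p : ℕ}
    (hbad : ∀ (c : Fin (p + 2) → ULift.{u} (Fin (n + 1))) (e : Expo n), Bad e →
      e ∉ allowed d (Set.range (ULift.down ∘ c))) :
    IsZero (CohTop.cechH (X := (Proj (Gr n R)).toTopCat) (Od n R d).presheaf (Us n R) (p + 1)) := by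
  refine CechTop.isZero_cechH_succ _ _ fun x hx => ?_
  obtain ⟨w, hw⟩ := exists_cone x
  refine ⟨w, coef_ext fun c => AddMonoidAlgebra.ext (Finsupp.ext fun e => ?_)⟩
  by_cases he : Bad e
  · exact (cf_eq_zero _ (hbad c e he)).trans (cf_eq_zero x (hbad c e he)).symm
  · exact cf_cone_d x w hw hx c he

theorem bad_not_allowed {p : ℕ} (h : p + 2 ≤ n ∨ -((n : ℤ) + 1) < d)
    (c : Fin (p + 2) → ULift.{u} (Fin (n + 1))) (e : Expo n) (he : Bad e) :
    e ∉ allowed d (Set.range (ULift.down ∘ c)) := by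
  intro hal
  rcases h with h | h
  · obtain ⟨i, hi⟩ : ∃ i, i ∉ Set.range (ULift.down ∘ c) := by
      by_contra hc
      push Not at hc
      have := Fintype.card_le_of_surjective _ hc
      simp only [Fintype.card_fin] at this
      omega
    exact absurd (hal.2 i hi) (not_le.2 (he i))
  · have h1 : deg e ≤ ∑ _i : Fin (n + 1), (-1 : ℤ) :=
      Finset.sum_le_sum fun i _ => by have := he i; omega
    rw [hal.1] at h1
    simp at h1
    omega

theorem isAffineOpen_cap {p : ℕ} (a : Fin (p + 1) → ULift.{u} (Fin (n + 1))) :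
    IsAffineOpen (⨅ k, Us n R (a k)) := by
  change IsAffineOpen (CechTop.cap (X := (Proj (Gr n R)).toTopCat) (Us n R) a)
  rw [← Dm_qa]
  exact Proj.isAffineOpen_basicOpen (Gr n R) _ (mon_mem _) (degree_qa_pos _)

theorem isQuasicoherent_Od : (Od n R d).IsQuasicoherent :=
  Groth.Agent.H11Tilde.tilde_isQuasicoherent (Gr n R) (Gr n R) d

/-- Vanishing of `H^(p+1)(O(d))` away from the top degree. -/
theorem subsingleton_HnM_Od_succ {p : ℕ} (h : p + 2 ≤ n ∨ -((n : ℤ) + 1) < d) :
    Subsingleton (HnM (Od n R d) (p + 1) ⊤) := by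
  have := isQuasicoherent_Od (n := n) (R := R) (d := d)
  obtain ⟨e⟩ := nonempty_cechH_HnM (Us n R) (Od n R d) (fun _ a => isAffineOpen_cap a) (p + 1)
  have hz := AddCommGrpCat.subsingleton_of_isZero (isZero_cechH_succ (R := R) (bad_not_allowed h))
  rw [← iSup_Us]
  exact @Equiv.subsingleton _ _ e.symm.toEquiv hz

/-- Vanishing above the dimension. -/
theorem subsingleton_HnM_proj (M : (Proj (Gr n R)).Modules) [M.IsQuasicoherent] {i : ℕ} (hi : n < i) :
    Subsingleton (HnM M i ⊤) := by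
  have h := subsingleton_of_affine_cover (X := Proj (Gr n R))
    (fun V W hV hW => hV.inf hW) M (n + 1) (fun k => Us n R ⟨k⟩)
    (fun k => Proj.isAffineOpen_basicOpen (Gr n R) _ (Groth.Agent.H11Proj.ProjSpace.X_mem n R k) one_pos)
    i (by omega)
  rwa [show (⨆ k : Fin (n + 1), Us n R ⟨k⟩) = ⊤ from
    Groth.Agent.H11Proj.ProjSpace.iSup_basicOpen n R] at h

end Groth.Agent.H10Coh.Pn
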