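import Groth.Agent.H10Coh.Pn.Vanishing
import Groth.Prelude.Def_Twist2
import Groth.Prelude.Def_Coh

/-!
# Global sections of `O(d)` on projective space, and the action of the base ring
-/

universe u

open CategoryTheory CategoryTheory.Limits AlgebraicGeometry TopologicalSpace Opposite MvPolynomial
open Groth.Agent.H11Tilde

namespace Groth.Agent.H10Coh.Pn

attribute [local instance 10000] hasSheafifyAb hasWeakSheafifyAb hasExtAb enoughInjAb

variable {n : ℕ} {R : Type u} [CommRing R] {d : ℤ}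

/-- The structure map. -/
noncomputable def toS (n : ℕ) (R : Type u) [CommRing R] : Proj (Gr n R) ⟶ Spec (CommRingCat.of R) :=
  Proj.toSpecZero (Gr n R) ≫ Spec.map (CommRingCat.ofHom (algebraMap R (Gr n R 0)))

theorem pmap_pmap {X : Scheme.{u}} (M : X.Modules) {U V W : X.Opens} (h : V ≤ U) (h' : W ≤ V)
    (x : Γ(M, U)) :
    M.presheaf.map (homOfLE h').op (M.presheaf.map (homOfLE h).op x) =
      M.presheaf.map (homOfLE (h'.trans h)).op x := by
  rw [← ConcreteCategory.comp_apply, ← Functor.map_comp]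
  rfl

theorem rmap_rmap {X : Scheme.{u}} {U V W : (X.Opens)ᵒᵖ} (a : U ⟶ V) (b : V ⟶ W) (c : U ⟶ W)
    (x : X.presheaf.obj U) : X.presheaf.map b (X.presheaf.map a x) = X.presheaf.map c x := by
  rw [← ConcreteCategory.comp_apply, ← Functor.map_comp, Subsingleton.elim (a ≫ b) c]

/-- The global function given by a constant. -/
noncomputable def constΓ (r : R) : Γ(Proj (Gr n R), ⊤) :=
  Coh.toGlobal (toS n R) r

theorem constΓ_awayToSection {f : MvPolynomial (Fin (n + 1)) R} {m : ℕ} (hf : f ∈ Gr n R m)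
    (hm : 0 < m) (r : R) :
    (Proj (Gr n R)).presheaf.map (homOfLE (le_top : Proj.basicOpen (Gr n R) f ≤ ⊤)).op (constΓ r) =
      Proj.awayToSection (Gr n R) f
        (HomogeneousLocalization.fromZeroRingHom (Gr n R) (Submonoid.powers f) (algebraMap R (Gr n R 0) r)) := by
  let e : CommRingCat.of R ⟶ CommRingCat.of (HomogeneousLocalization.Away (Gr n R) f) :=
    CommRingCat.ofHom ((HomogeneousLocalization.fromZeroRingHom (Gr n R) (Submonoid.powers f)).comp
      (algebraMap R (Gr n R 0)))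
  have h : (Proj.basicOpen (Gr n R) f).ι ≫ toS n R =
      Proj.basicOpenToSpec (Gr n R) f ≫ Spec.map e := by
    have h0 := (Proj.awayι_toSpecZero_assoc (Gr n R) f hf hm
      (Spec.map (CommRingCat.ofHom (algebraMap R (Gr n R 0))))).trans (Spec.map_comp _ _).symm
    rw [Proj.awayι, Category.assoc, Iso.inv_comp_eq, Proj.basicOpenIsoSpec_hom] at h0
    exact h0
  have h1 := congrArg Scheme.Hom.appTop h
  rw [Scheme.Hom.comp_appTop, Scheme.Hom.comp_appTop] at h1
  have h2 := ConcreteCategory.congr_hom h1 ((Scheme.ΓSpecIso (CommRingCat.of R)).inv r)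
  rw [show (Proj.basicOpenToSpec (Gr n R) f).appTop = _ from Proj.basicOpenToSpec_app_top (Gr n R) f] at h2
  have h3 := congrArg ((Proj.basicOpen (Gr n R) f).topIso.hom) h2
  have nat : ((Spec.map e).appTop ≫ (Scheme.ΓSpecIso _).hom) ((Scheme.ΓSpecIso (CommRingCat.of R)).inv r) = e r := by
    rw [Scheme.ΓSpecIso_naturality]
    exact congrArg e ((Scheme.ΓSpecIso (CommRingCat.of R)).commRingCatIsoToRingEquiv.apply_symm_apply r)
  simp only [ConcreteCategory.comp_apply, Iso.inv_hom_id_apply] at h3 nat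
  rw [nat] at h3
  refine Eq.trans ?_ h3
  simp only [Scheme.Opens.topIso_hom, Scheme.Opens.ι_appTop]
  exact (rmap_rmap _ _ _ _).symm

theorem fval_constΓ {f : MvPolynomial (Fin (n + 1)) R} {m : ℕ} (hf : f ∈ Gr n R m) (hm : 0 < m)
    (r : R) (x : Proj.basicOpen (Gr n R) f) :
    fval (Gr n R) ((Proj (Gr n R)).presheaf.map
      (homOfLE (le_top : Proj.basicOpen (Gr n R) f ≤ ⊤)).op (constΓ r)) x =
      Localization.mk (C r) 1 := by
  rw [constΓ_awayToSection hf hm]
  have h : HomogeneousLocalization.fromZeroRingHom (Gr n R) (Submonoid.powers f) (algebraMap R (Gr n R 0) r) =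
      HomogeneousLocalization.Away.mk (Gr n R) hf 0 (C r) (by simpa using isHomogeneous_C (Fin (n + 1)) r) := by
    apply HomogeneousLocalization.val_injective
    rw [HomogeneousLocalization.Away.val_mk]
    refine (HomogeneousLocalization.val_mk _).trans ?_
    exact congrArg (Localization.mk _) (Subtype.ext (pow_zero f).symm)
  rw [h, fval_awayToSection]
  exact congrArg (Localization.mk _) (Subtype.ext (pow_zero f))

theorem psi_smul {q₀ : Fin (n + 1) →₀ ℕ} (hpos : 0 < q₀.degree) (r : R) (σ : Γ(Od n R d, Dm q₀)) :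
    psi hpos ((Proj (Gr n R)).presheaf.map (homOfLE (le_top : Dm (R := R) q₀ ≤ ⊤)).op (constΓ r) • σ) =
      r • psi hpos σ := by
  obtain ⟨i, m, q, hq, hm, hd, hz, hv⟩ := isRep_psi hpos σ
  rw [hz]
  refine psi_eq hpos ⟨i, C r * m, q, hq,
    by simpa using SetLike.mul_mem_graded (show C r ∈ Gr n R 0 from isHomogeneous_C (Fin (n + 1)) r) hm,
    hd, ?_, fun x => ?_⟩
  · rw [map_mul, ← monomial_zero', toL_monomial, map_zero, ← smul_mul_assoc]
    congr 1
    exact (Algebra.smul_def r _).trans rfl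
  · rw [sval_smul, hv x, fval_constΓ (mon_mem q₀) hpos]
    refine Eq.trans ?_ (fracAt_congr (Gr n R) x.1 (m := C r * m) (show 1 * mon (R := R) q ∉ x.1.asHomogeneousIdeal by rw [one_mul]; exact hq x.1 x.2) (hq x.1 x.2) rfl (one_mul (mon q)))
    exact LocalizedModule.mk_smul_mk _ _ _ _

/-- The expansion of a global section on `D₊(X 0)`. -/
noncomputable def psiG : Γ(Od n R d, ⊤) →+ L n R :=
  (psi (degree_qa_pos (fun _ : Fin 1 => (0 : Fin (n + 1))))).comp
    ((Od n R d).presheaf.map (homOfLE le_top).op).hom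

theorem psiG_smul (r : R) (σ : Γ(Od n R d, ⊤)) :
    psiG ((constΓ r : Γ(Proj (Gr n R), ⊤)) • σ) = r • psiG σ := by
  rw [psiG, AddMonoidHom.comp_apply, AddMonoidHom.comp_apply]
  refine Eq.trans (congrArg _ (Scheme.Modules.map_smul (Od n R d) _ _ σ)) ?_
  exact psi_smul _ r _

theorem psiG_eq (i : Fin (n + 1)) (σ : Γ(Od n R d, ⊤)) :
    psiG σ = psi (degree_qa_pos (fun _ : Fin 1 => i)) ((Od n R d).presheaf.map (homOfLE le_top).op σ) := by
  let c : Fin 2 → Fin (n + 1) := ![0, i]
  have h : ∀ k : Fin (n + 1), k ∈ Set.range c →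
      Dm (R := R) (qa c) ≤ Dm (R := R) (qa (fun _ : Fin 1 => k)) := by
    rintro k ⟨j, rfl⟩ x hx
    change mon _ ∉ x.asHomogeneousIdeal at hx ⊢
    rw [mon_qa] at hx ⊢
    intro hk
    apply hx
    rw [Fin.prod_univ_one] at hk
    rw [← Finset.mul_prod_erase _ _ (Finset.mem_univ j)]
    exact x.asHomogeneousIdeal.toIdeal.mul_mem_right _ hk
  have h0 := h 0 ⟨0, rfl⟩
  have hi := h i ⟨1, rfl⟩
  rw [psiG, AddMonoidHom.comp_apply, ← psi_res _ (degree_qa_pos c) h0, ← psi_res _ (degree_qa_pos c) hi]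
  exact congrArg _ ((pmap_pmap (Od n R d) le_top h0 σ).trans (pmap_pmap (Od n R d) le_top hi σ).symm)

theorem psiG_mem (σ : Γ(Od n R d, ⊤)) (hn : n ≠ 0 ∨ 0 ≤ d) : psiG σ ∈ allowedSub R d (∅ : Set (Fin (n + 1))) := by
  intro e he
  have hmem : ∀ i : Fin (n + 1), e ∈ allowed d (Set.range fun _ : Fin 1 => i) := fun i => by
    have h := psi_mem (degree_qa_pos (fun _ : Fin 1 => i))
      ((Od n R d).presheaf.map (homOfLE le_top).op σ) e (by rw [← psiG_eq]; exact he)
    rwa [show {j | 0 < qa (fun _ : Fin 1 => i) j} = Set.range (fun _ : Fin 1 => i) from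
      Set.ext fun j => qa_pos_iff _ j] at h
  refine ⟨(hmem 0).1, fun j _ => ?_⟩
  by_cases hn0 : n = 0
  · have hd := (hmem 0).1
    subst hn0
    rw [deg, Fin.sum_univ_one] at hd
    rw [show j = 0 from Fin.ext (by omega), hd]
    exact hn.resolve_left (by simp)
  · obtain ⟨k, hk⟩ : ∃ k : Fin (n + 1), k ≠ j := by
      refine Fintype.exists_ne_of_one_lt_card ?_ j
      simp only [Fintype.card_fin]
      omega
    exact (hmem k).2 j (by simp [Ne.symm hk, hk])

theorem psiG_injective : Function.Injective (psiG (n := n) (R := R) (d := d)) := by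
  rw [injective_iff_map_eq_zero]
  intro σ hσ
  refine TopCat.Sheaf.eq_of_locally_eq' (sheafOf (Od n R d)) (fun i => Dm (qa (fun _ : Fin 1 => (i : ULift.{u} (Fin (n + 1))).down))) ⊤
    (fun i => homOfLE le_top) ?_ σ 0 fun i => ?_
  · refine iSup_Us.ge.trans (iSup_le fun i => le_iSup_of_le i ?_)
    intro x hx
    change mon _ ∉ x.asHomogeneousIdeal
    rwa [mon_qa, Fin.prod_univ_one]
  · apply psi_injective (d := d) (degree_qa_pos (fun _ : Fin 1 => i.down))
    refine ((psiG_eq i.down σ).symm.trans hσ).trans ?_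
    exact ((congrArg _ (map_zero ((sheafOf (Od n R d)).1.map (homOfLE le_top).op).hom)).trans (map_zero _)).symm

theorem psiG_range (z : L n R) (hz : z ∈ allowedSub R d (∅ : Set (Fin (n + 1)))) :
    ∃ σ : Γ(Od n R d, ⊤), psiG σ = z := by
  obtain ⟨N, hN⟩ := exists_polynomial_of_mem hz 0 (fun j hj => hj.elim)
  obtain ⟨i, m, hm, hmz, hdeg⟩ := hN N le_rfl
  rcases hdeg with hdeg | rfl
  · have hq : ∀ x ∈ (⊤ : (Proj (Gr n R)).Opens), mon (R := R) (0 : Fin (n + 1) →₀ ℕ) ∉ x.asHomogeneousIdeal :=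
      fun x _ => by simpa [mon] using one_notMem (Gr n R) x
    refine ⟨secOf (Gr n R) (Gr n R) (show m ∈ Gr n R i from hm) (mon_mem (R := R) 0) hq
      (by simpa using hdeg), psi_eq (degree_qa_pos _) (IsRep.res le_top ⟨i, m, 0, hq, hm, by simpa using hdeg, ?_, fun x => rfl⟩)⟩
    rw [hmz]
    simp [T_zero]
  · exact ⟨0, map_zero _⟩

end Groth.Agent.H10Coh.Pn
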