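import Groth.Agent.H10Coh.HodgeGeneric
import Groth.Agent.H10Coh.Pn.Results
import Groth.Agent.H02CA.Euler.Main
import Groth.Agent.H02CA.KcohNilp
import Groth.Agent.H22Alg.RegSheaf
import Groth.Agent.H29Omega.SheafFinite

/-!
# The cohomology of the twisted sheaves of differential forms on projective space
-/

set_option autoImplicit false
set_option linter.style.haveILetI false
set_option backward.isDefEq.respectTransparency.types false

noncomputable section

universe u

open CategoryTheory CategoryTheory.Limits AlgebraicGeometry Opposite TopologicalSpace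

namespace Groth.Agent.H10Coh.PnHodge

theorem nonempty_sigma {X : Scheme.{u}} (r : ℕ) (M : X.Modules) :
    Nonempty ((∐ fun _ : Fin r => M) ≅ CohB1.tensorMod (ExtPowFree.F X r) M) := by
  obtain ⟨e⟩ := ExtPowFree.nonempty_iso_freeMod (X := X) r
  obtain ⟨c⟩ := H02CA.KcohNilp.nonempty_freeMod_tensor (X := X) M r
  exact ⟨c.symm ≪≫ PicGrp.tensorModIso e.symm (Iso.refl _)⟩

variable (n : ℕ) (A : Type u) [CommRing A]

local notation "PP" => CohB1.ProjSpace n A

theorem nonempty_zero : Nonempty (Twist.twistProjSpace n A 0 ≅ Coh.structureModule PP) :=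
  H11Tilde.nonempty_twist_zero_iso (CohB1.polyGrading n A)

theorem nonempty_quot [QuasiSeparated (CohB1.ProjSpace.toSpec n A)] :
    Nonempty ((H02CA.Euler.eulerSeq n A).X₃ ≅ Coh.structureModule PP) := by
  rw [H02CA.Euler.eulerSeq_X₃]
  exact nonempty_zero n A

theorem nonempty_middle [QuasiSeparated (CohB1.ProjSpace.toSpec n A)] :
    Nonempty ((H02CA.Euler.eulerSeq n A).X₂ ≅
      CohB1.tensorMod (ExtPowFree.F PP (n + 1)) (Twist.twistProjSpace n A (-1))) := by
  rw [H02CA.Euler.eulerSeq_X₂]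
  exact nonempty_sigma (n + 1) _

theorem subsingleton_top {M : (PP).Modules} (hM : Coh.IsQCoh M) {q : ℕ} (hq : n < q) :
    Subsingleton (Coh.HH PP M q) :=
  @Equiv.subsingleton _ _ (HHEquiv M q).toEquiv (@Pn.subsingleton_HnM_proj n A _ M hM q hq)

theorem subsingleton_twist (d : ℤ) (q : ℕ) (h₀ : ¬ (q = 0 ∧ 0 ≤ d)) (hn : ¬ (q = n ∧ d ≤ -((n : ℤ) + 1))) :
    Subsingleton (Coh.HH PP (Twist.twistProjSpace n A d) q) :=
  Pn.subsingleton_HH_Od (n := n) (R := A) (d := d) q h₀ hn

/-- Projective space. -/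
def setup [QuasiSeparated (CohB1.ProjSpace.toSpec n A)] : Hodge.Setup PP n where
  O d := Twist.twistProjSpace n A d
  inv d := H22Alg.RegSheaf.isInvertible_twistProjSpace n A d
  add a b c h := H11Tilde.nonempty_twist_tensor_iso _ (H22Alg.RegSheaf.cover n A) a b c h
  zero := nonempty_zero n A
  van d q := subsingleton_twist n A d q
  top M hM q hq := subsingleton_top n A hM hq
  E := H02CA.Euler.eulerSeq n A
  exact := H02CA.Euler.eulerSeq_shortExact n A
  qc := H29Omega.isQCoh_sheaf _
  e₃ := (nonempty_quot n A).some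
  middle := nonempty_middle n A

theorem nonempty_linearEquiv_structure :
    Nonempty (Coh.HH PP (Coh.structureModule PP) 0 ≃ₗ[A] A) := by
  let σ : Coh.HH PP (Coh.structureModule PP) 0 :=
    (HH0Equiv _).symm (show Γ(Coh.structureModule PP, ⊤) from (1 : Γ(PP, ⊤)))
  have h : ∀ a : A, HH0Equiv _ (a • σ) = (show Γ(Coh.structureModule PP, ⊤) from Pn.constΓ a) := fun a => by
    show HH0Equiv _ ((show Coh.Γtop PP from Pn.constΓ a) • σ) = _
    rw [HH0Equiv_smul, AddEquiv.apply_symm_apply]
    exact mul_one (Pn.constΓ a)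
  refine ⟨(LinearEquiv.ofBijective (LinearMap.toSpanSingleton A _ σ) ⟨fun a b hab => ?_, fun x => ?_⟩).symm⟩
  · exact Pn.bijective_constΓ.1 ((h a).symm.trans ((congrArg _ hab).trans (h b)))
  · obtain ⟨a, ha⟩ := Pn.bijective_constΓ.2 (HH0Equiv _ x)
    exact ⟨a, (HH0Equiv _).injective ((h a).trans ha)⟩

end Groth.Agent.H10Coh.PnHodge
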