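import Groth.Agent.H10Coh.HHSeq
import Groth.Agent.H10Coh.Pn.Hodge
import Groth.Agent.H10Coh.Pn.TopShift
import Groth.Agent.H3CAlg.FormsDim
import Groth.Agent.LeadVan.Vanishing
import Groth.Agent.H10Coh.Serre
import Groth.Agent.S10829
import Groth.Agent.S0843
import Groth.Agent.S0845

/-!
# Cohomology of hypersurfaces of projective space
-/

set_option autoImplicit false
set_option linter.style.haveILetI false
set_option backward.isDefEq.respectTransparency.types false

noncomputable section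

universe u

open CategoryTheory CategoryTheory.Limits AlgebraicGeometry TopologicalSpace Opposite
open Groth.Agent.LeadFF Groth.Agent.H11Tilde Groth.Agent.H11Ample

namespace Groth.Agent.H10Coh.Hyper

attribute [local instance 10000] H10Coh.hasSheafifyAb H10Coh.hasWeakSheafifyAb H10Coh.hasExtAb H10Coh.enoughInjAb

section Generic

variable {X : Scheme.{u}} (I : X.IdealSheafData)

/-- The ideal sequence. -/
def idealSeq : ShortComplex X.Modules :=
  ShortComplex.mk (ClSub.idealModι I) (ClSub.toSubscheme I) (kernel.condition _)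

theorem idealSeq_shortExact : (idealSeq I).ShortExact := by
  haveI : Epi (idealSeq I).g := H10Coh.epi_toSubscheme I
  haveI : Mono (idealSeq I).f := inferInstanceAs (Mono (kernel.ι _))
  exact { exact := ShortComplex.exact_of_f_is_kernel _ (kernelIsKernel (ClSub.toSubscheme I)) }

theorem exists_seq_of_iso {S : ShortComplex X.Modules} (hS : S.ShortExact) {A B : X.Modules} (eA : S.X₁ ≅ A)
    (eB : S.X₂ ≅ B) : ∃ (f : A ⟶ B) (g : B ⟶ S.X₃) (w : f ≫ g = 0), (ShortComplex.mk f g w).ShortExact :=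
  ⟨eA.inv ≫ S.f ≫ eB.hom, eB.inv ≫ S.g, by simp,
    ShortComplex.shortExact_of_iso (S₁ := S) (ShortComplex.isoMk eA eB (Iso.refl _) (by simp) (by simp)) hS⟩

theorem exists_seq {N A B : X.Modules} (hN : PicF.IsInvertible N) (eA : CohB1.tensorMod (ClSub.idealMod I) N ≅ A)
    (eB : CohB1.tensorMod (Coh.structureModule X) N ≅ B) :
    ∃ (f : A ⟶ B) (g : B ⟶ CohB1.tensorMod (ClSub.quotMod I) N) (w : f ≫ g = 0),
      (ShortComplex.mk f g w).ShortExact :=
  exists_seq_of_iso (Tw.shortExact_seq (idealSeq_shortExact I) hN) eA eB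

theorem app_quot_eq_zero {N : X.Modules} (hN : PicF.IsInvertible N) {V : X.Opens}
    (hV : Disjoint (V : Set X) (Set.range I.subschemeι)) (t : Γ(CohB1.tensorMod (ClSub.quotMod I) N, V)) : t = 0 := by
  refine H11Tilde.eq_of_locally _ _ fun x hx => ?_
  obtain ⟨W, hW, e, m, hxW, he, hm⟩ := Tw.exists_eq_tm hN t hx
  refine ⟨W, hW, hxW, ?_⟩
  have hW' : (I.subschemeι ⁻¹ᵁ W) = ⊥ := by
    ext y
    exact ⟨fun hy => (Set.disjoint_left.1 hV (hW hy) ⟨y, rfl⟩).elim, fun hy => hy.elim⟩
  haveI : Subsingleton Γ(ClSub.quotMod I, W) := by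
    show Subsingleton Γ(Coh.structureModule I.subscheme, I.subschemeι ⁻¹ᵁ W)
    rw [hW']
    exact inferInstanceAs (Subsingleton Γ(I.subscheme, ⊥))
  rw [hm, Subsingleton.elim m 0, tm_zero_left, map_zero]

theorem exists_notMem_range [IsReduced X] {L : X.Modules} (hL : PicF.IsInvertible L) (e : ClSub.idealMod I ≅ L)
    [Nonempty X] : ∃ x : X, x ∉ Set.range I.subschemeι := by
  by_contra h
  push Not at h
  haveI : Surjective I.subschemeι := ⟨fun x => h x⟩
  haveI := isIso_of_isClosedImmersion_of_surjective I.subschemeι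
  have hz : IsZero (ClSub.idealMod I) := by
    rw [IsZero.iff_id_eq_zero]
    refine Scheme.Modules.hom_ext _ _ fun U => ?_
    ext s
    refine H10Coh.injective_app_of_mono' (kernel.ι (ClSub.toSubscheme I)) U ?_
    have hs : (ClSub.toSubscheme I).app U ((kernel.ι (ClSub.toSubscheme I)).app U s) = 0 :=
      congr($(congrArg (fun k => Scheme.Modules.Hom.app k U) (kernel.condition (ClSub.toSubscheme I))) s)
    have hinj : Function.Injective (I.subschemeι.app U) :=
      ((ConcreteCategory.isIso_iff_bijective _).1 inferInstance).1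
    have h0 : (kernel.ι (ClSub.toSubscheme I)).app U s = 0 := hinj (hs.trans (map_zero _).symm)
    exact h0.trans (map_zero _).symm
  obtain ⟨x⟩ := (inferInstance : Nonempty X)
  obtain ⟨U, l, hxU, hl⟩ := exists_gen hL x
  haveI : Subsingleton Γ(L, U) := ⟨fun a b => by
    have h0 : (𝟙 L : L ⟶ L) = 0 := (hz.of_iso e.symm).eq_of_src _ _
    have := fun c : Γ(L, U) => congr($(congrArg (fun k => Scheme.Modules.Hom.app k U) h0) c)
    exact ((this a).trans (this b).symm)⟩
  have h10 : (1 : Γ(X, U)) = 0 := (hl.bijective le_rfl).1 (Subsingleton.elim _ _)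
  haveI : Nonempty (U : Set X) := ⟨⟨x, hxU⟩⟩
  exact (one_ne_zero (α := X.presheaf.stalk x)) (by
    rw [← map_one (X.presheaf.germ U x hxU).hom, h10, map_zero])

theorem subsingleton_of_suppLT [NoetherianSpace X] {M : X.Modules} {k : ℕ} (h : LeadVan.SuppLT k (Coh.toAb M)) {p : ℕ} (hp : k ≤ p) :
    Subsingleton (Coh.HH X M p) :=
  LeadVan.subsingleton_H_of_suppLT k (Coh.toAb M) h p hp

theorem subsingleton_quot_top [NoetherianSpace X] [IrreducibleSpace X] [QuasiSober X] {d : ℕ}
    (hd : topologicalKrullDim X ≤ (d : WithBot ℕ∞)) {N : X.Modules} (hN : PicF.IsInvertible N)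
    (hx : ∃ x : X, x ∉ Set.range I.subschemeι) :
    Subsingleton (Coh.HH X (CohB1.tensorMod (ClSub.quotMod I) N) d) := by
  refine subsingleton_of_suppLT (fun W hW U hU s => ?_) le_rfl
  obtain ⟨x, hx⟩ := hx
  let T : IrreducibleCloseds X := ⟨Set.univ, IrreducibleSpace.isIrreducible_univ X, isClosed_univ⟩
  have hWT : W = T := by
    refine (eq_or_lt_of_le (show W ≤ T from fun _ _ => trivial)).resolve_right fun hlt => ?_
    have h1 : Order.height W + 1 ≤ Order.height T := Order.height_add_one_le hlt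
    have h2 : Order.height T ≤ (d : ℕ∞) := WithBot.coe_le_coe.1 ((Order.height_le_krullDim T).trans hd)
    have h3 : (d : ℕ∞) + 1 ≤ (d : ℕ∞) := (add_le_add hW le_rfl).trans (h1.trans h2)
    exact absurd h3 (by exact_mod_cast Nat.not_succ_le_self d)
  let D : X.Opens := ⟨(Set.range I.subschemeι)ᶜ, I.subschemeι.isClosedEmbedding.isClosed_range.isOpen_compl⟩
  obtain ⟨y, hyW, hyU⟩ := hU
  obtain ⟨z, -, hzU, hzD⟩ := (IrreducibleSpace.isIrreducible_univ X).isPreirreducible U D U.2 D.2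
    ⟨y, trivial, hyU⟩ ⟨x, trivial, hx⟩
  refine ⟨U ⊓ D, inf_le_left, ⟨z, ?_, hzU, hzD⟩, ?_⟩
  · rw [hWT]; trivial
  · exact app_quot_eq_zero I hN (V := U ⊓ D) (Set.disjoint_left.2 fun a ha ha' => (show a ∈ U.1 ∧ a ∈ D.1 from ha).2 ha') _

end Generic

section Linear

variable {X : Scheme.{u}} {F : Type u} [Field F] [X.Over (Spec (CommRingCat.of F))]

/-- The map on cohomology, linear. -/
def Hmₗ {M N : X.Modules} (f : M ⟶ N) (q : ℕ) : Coh.HH X M q →ₗ[F] Coh.HH X N q where
  toFun := Hm f q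
  map_add' := map_add _
  map_smul' a x := by
    rw [RingHom.id_apply, ← Hm_smulMod, ← Hm_smulMod, ← Hm_comp, ← Hm_comp, smulMod_natural]

theorem range_Hmₗ {S : ShortComplex X.Modules} (hS : S.ShortExact) (q : ℕ) :
    LinearMap.range (Hmₗ (F := F) S.g q) = LinearMap.ker (HHSeq.dlₗ (A := F) hS q) := by
  ext x
  refine ⟨?_, fun hx => exists_Hm_g hS q x hx⟩
  rintro ⟨y, rfl⟩
  show (Abelian.Ext.comp (y.comp (Abelian.Ext.mk₀ ((H10Coh.shF X).map S.g)) (add_zero q))
    (H10Coh.shortExact_sh hS).extClass rfl) = 0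
  exact ((Abelian.Ext.comp_assoc_of_second_deg_zero _ _ _ _).trans
    (congrArg (fun z => y.comp z rfl) (H10Coh.shortExact_sh hS).comp_extClass)).trans
      (Abelian.Ext.comp_zero y _ _ _ _)

theorem ker_Hmₗ {S : ShortComplex X.Modules} (hS : S.ShortExact) (q : ℕ) :
    LinearMap.ker (Hmₗ (F := F) S.g q) = LinearMap.range (Hmₗ (F := F) S.f q) := by
  ext x
  refine ⟨fun hx => exists_Hm_f hS q x hx, ?_⟩
  rintro ⟨y, rfl⟩
  show Hm S.g q (Hm S.f q y) = 0
  rw [← Hm_comp, S.zero, Hm_zero]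

theorem range_dlₗ {S : ShortComplex X.Modules} (hS : S.ShortExact) (q : ℕ) :
    LinearMap.range (HHSeq.dlₗ (A := F) hS q) = LinearMap.ker (Hmₗ (F := F) S.f (q + 1)) := by
  ext x
  refine ⟨?_, fun hx => HHSeq.exists_dl hS q x hx⟩
  rintro ⟨y, rfl⟩
  exact Hm_dl hS q y

/-- The dimension in the middle of the long exact sequence, when the next term but one vanishes. -/
theorem finrank_X₃ {S : ShortComplex X.Modules} (hS : S.ShortExact) (q : ℕ)
    [Module.Finite F (Coh.HH X S.X₁ q)] [Module.Finite F (Coh.HH X S.X₂ q)]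
    [Module.Finite F (Coh.HH X S.X₁ (q + 1))] [Module.Finite F (Coh.HH X S.X₂ (q + 1))]
    {r₁ r₂ : ℕ} (h₁ : Module.finrank F (LinearMap.range (Hmₗ (F := F) S.f q)) = r₁)
    (h₂ : Module.finrank F (LinearMap.range (Hmₗ (F := F) S.f (q + 1))) = r₂) :
    Module.Finite F (Coh.HH X S.X₃ q) ∧ Module.finrank F (Coh.HH X S.X₃ q) =
      (Module.finrank F (Coh.HH X S.X₂ q) - r₁) + (Module.finrank F (Coh.HH X S.X₁ (q + 1)) - r₂) := by
  have e₁ := (Hmₗ (F := F) S.g q).finrank_range_add_finrank_ker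
  rw [ker_Hmₗ hS q, h₁] at e₁
  have e₂ := (Hmₗ (F := F) S.f (q + 1)).finrank_range_add_finrank_ker
  rw [h₂, ← range_dlₗ hS q] at e₂
  haveI : Module.Finite F (Coh.HH X S.X₃ q) :=
    ⟨Submodule.fg_of_fg_map_of_fg_inf_ker (HHSeq.dlₗ (A := F) hS q) (IsNoetherian.noetherian _) (by
      rw [top_inf_eq, ← range_Hmₗ hS q, LinearMap.range_eq_map]
      exact Module.Finite.fg_top.map _)⟩
  have e₃ := (HHSeq.dlₗ (A := F) hS q).finrank_range_add_finrank_ker
  rw [← range_Hmₗ hS q] at e₃
  exact ⟨inferInstance, by omega⟩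

end Linear

end Groth.Agent.H10Coh.Hyper
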