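import Mathlib.LinearAlgebra.Matrix.Determinant.Basic
import Mathlib.LinearAlgebra.Matrix.Adjugate
import Mathlib.GroupTheory.Perm.Sign
import Mathlib.Tactic

/-!
# Top degree Čech cocycles are alternating functions
-/

universe u

open Equiv

namespace Groth.Agent.H10Coh.Pn

variable {n : ℕ} {A : Type u} [AddCommGroup A]

/-- The cocycle condition on functions of top degree tuples. -/
def IsCocycle (g : (Fin (n + 1) → Fin (n + 1)) → A) : Prop :=
  ∀ c : Fin (n + 2) → Fin (n + 1), ∑ j : Fin (n + 2), ((-1 : ℤ) ^ (j : ℕ)) • g (c ∘ j.succAbove) = 0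

theorem IsCocycle.apply_swap {g : (Fin (n + 1) → Fin (n + 1)) → A} (hg : IsCocycle g)
    (h0 : ∀ a, ¬ Function.Injective a → g a = 0) (a : Fin (n + 1) → Fin (n + 1)) (i : Fin n) :
    g (a ∘ swap i.castSucc i.succ) = -g a := by
  let aN : ℕ → Fin (n + 1) := fun m => a ⟨min m n, by omega⟩
  have hb := i.isLt
  let c : Fin (n + 2) → Fin (n + 1) := fun p =>
    if p.val < i.val + 2 then aN p.val else if p.val = i.val + 2 then aN i.val else aN (p.val - 1)
  have hv : ∀ (j : Fin (n + 2)) (k : Fin (n + 1)),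
      (j.succAbove k).val = if k.val < j.val then k.val else k.val + 1 := fun j k => by
    unfold Fin.succAbove
    split_ifs with h h' h' <;> simp only [Fin.lt_def, Fin.val_castSucc, Fin.val_succ] at * <;> omega
  have ha : ∀ (k : Fin (n + 1)) (m : ℕ), m = k.val → aN m = a k := fun k m h => by
    subst h
    exact congrArg a (Fin.ext (Nat.min_eq_left (Nat.le_of_lt_succ k.isLt)))
  let j₁ : Fin (n + 2) := i.castSucc.castSucc
  let j₂ : Fin (n + 2) := i.succ.succ
  have e₁ : (j₁ : ℕ) = i := rfl
  have e₂ : (j₂ : ℕ) = i + 2 := rfl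
  have h2 : c ∘ j₂.succAbove = a := by
    funext k
    have hk := k.isLt
    simp only [Function.comp_apply, c, hv, e₂]
    split_ifs <;> exact ha k _ (by omega)
  have h1 : c ∘ j₁.succAbove = a ∘ swap i.castSucc i.succ := by
    funext k
    have hk := k.isLt
    simp only [Function.comp_apply, c, hv, e₁]
    by_cases hk1 : k = i.castSucc
    · subst hk1
      rw [swap_apply_left]
      simp only [Fin.val_castSucc, lt_irrefl, if_false]
      rw [if_pos (by omega)]
      exact ha i.succ _ (by simp)
    · by_cases hk2 : k = i.succ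
      · subst hk2
        rw [swap_apply_right]
        simp only [Fin.val_succ]
        rw [if_neg (show ¬ ((i : ℕ) + 1 < i) by omega), if_neg (by omega), if_pos (by omega)]
        exact ha i.castSucc _ (by simp)
      · rw [swap_apply_of_ne_of_ne hk1 hk2]
        simp only [Fin.ext_iff, Fin.val_castSucc, Fin.val_succ] at hk1 hk2
        split_ifs <;> exact ha k _ (by omega)
  have hne : j₁ ≠ j₂ := fun h => by
    have := congrArg Fin.val h
    omega
  have hsame : c j₁ = c j₂ := by
    simp only [c, e₁, e₂]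
    rw [if_pos (show (i : ℕ) < i + 2 by omega), if_neg (lt_irrefl _)]
    simp
  have hsum := hg c
  rw [Finset.sum_eq_add_of_mem j₁ j₂ (Finset.mem_univ _) (Finset.mem_univ _) hne ?_] at hsum
  · rw [h1, h2] at hsum
    rw [e₁, e₂, pow_add, neg_one_sq, mul_one, ← smul_add] at hsum
    refine eq_neg_iff_add_eq_zero.2 ?_
    rcases neg_one_pow_eq_or ℤ (i : ℕ) with h | h <;> rw [h] at hsum
    · rwa [one_smul] at hsum
    · rwa [neg_smul, one_smul, neg_eq_zero] at hsum
  · rintro j - ⟨hj₁, hj₂⟩
    rw [h0 _ fun hinj => hne ?_, smul_zero]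
    obtain ⟨k₁, hk₁⟩ := Fin.exists_succAbove_eq hj₁.symm
    obtain ⟨k₂, hk₂⟩ := Fin.exists_succAbove_eq hj₂.symm
    have : k₁ = k₂ := hinj (show c (j.succAbove k₁) = c (j.succAbove k₂) by rw [hk₁, hk₂, hsame])
    rw [← hk₁, ← hk₂, this]

theorem IsCocycle.eq_zero {g : (Fin (n + 1) → Fin (n + 1)) → A} (hg : IsCocycle g)
    (h0 : ∀ a, ¬ Function.Injective a → g a = 0) (hid : g id = 0) : g = 0 := by
  funext a
  by_cases ha : Function.Injective a
  · have key : ∀ σ : Perm (Fin (n + 1)), g σ = 0 := fun σ => by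
      refine Submonoid.closure_induction_right (motive := fun (σ : Perm (Fin (n + 1))) _ => g σ = 0) hid ?_
        (by rw [Perm.mclosure_swap_castSucc_succ]; exact Submonoid.mem_top σ)
      rintro x - _ ⟨i, rfl⟩ hx
      rw [Perm.coe_mul, hg.apply_swap h0, hx, neg_zero]
    exact key (Equiv.ofBijective a (Finite.injective_iff_bijective.1 ha))
  · exact h0 a ha

/-- The matrix of a tuple. -/
def tupleMat (a : Fin (n + 1) → Fin (n + 1)) : Matrix (Fin (n + 1)) (Fin (n + 1)) ℤ :=
  fun k l => if a k = l then 1 else 0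

theorem det_tupleMat_id : (tupleMat (id : Fin (n + 1) → Fin (n + 1))).det = 1 := by
  rw [show tupleMat (id : Fin (n + 1) → Fin (n + 1)) = 1 from by ext k l; simp [tupleMat, Matrix.one_apply]]
  exact Matrix.det_one

theorem det_tupleMat_of_not_injective {a : Fin (n + 1) → Fin (n + 1)} (ha : ¬ Function.Injective a) :
    (tupleMat a).det = 0 := by
  obtain ⟨l, hl⟩ : ∃ l, ∀ k, a k ≠ l := by
    by_contra h
    push Not at h
    exact ha (Finite.injective_iff_surjective.2 h)
  exact Matrix.det_eq_zero_of_column_eq_zero l fun k => if_neg (hl k)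

theorem isCocycle_det (z : A) :
    IsCocycle fun a : Fin (n + 1) → Fin (n + 1) => (tupleMat a).det • z := by
  intro c
  let M : Matrix (Fin (n + 2)) (Fin (n + 2)) ℤ := fun k => Fin.cons 1 fun l => if c k = l then 1 else 0
  have hM : M.det = ∑ j : Fin (n + 2), (-1 : ℤ) ^ (j : ℕ) * (tupleMat (c ∘ j.succAbove)).det := by
    rw [Matrix.det_succ_column_zero]
    refine Finset.sum_congr rfl fun j _ => ?_
    rw [show M j 0 = 1 from rfl, mul_one]
    congr 2
  have hz : M.det = 0 := by
    let v : Fin (n + 2) → ℤ := Fin.cons (-1) fun _ => 1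
    have hv : Matrix.mulVec M v = 0 := by
      funext k
      simp [Matrix.mulVec, dotProduct, Fin.sum_univ_succ, M, v]
    have h := congrArg (fun w => w 0) ((Matrix.mulVec_mulVec v M.adjugate M).symm.trans (by rw [hv, Matrix.mulVec_zero]))
    rw [Matrix.adjugate_mul, Matrix.smul_mulVec, Matrix.one_mulVec] at h
    simpa [v] using h
  simp only [smul_smul, ← Finset.sum_smul, ← hM, hz, zero_smul]

end Groth.Agent.H10Coh.Pn
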