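import Groth.Agent.H15Site.CechTop
import Mathlib.Algebra.Homology.ShortComplex.HomologicalComplex

/-!
# Classes of Čech cocycles
-/

universe u

open CategoryTheory CategoryTheory.Limits Opposite TopologicalSpace

namespace Groth.Agent.H10Coh.CechCls

open Groth.Agent.H15Site.CechTop

variable {X : TopCat.{u}} {ι : Type u} (U : ι → Opens X) (P : (Opens X)ᵒᵖ ⥤ AddCommGrpCat.{u})

/-- Cocycles in degree `p + 1`. -/
noncomputable abbrev Zc (p : ℕ) : AddSubgroup (C U P (p + 1)) := (d U P (p + 1)).hom.ker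

theorem subtype_comp_d (p : ℕ) :
    AddCommGrpCat.ofHom (Zc U P p).subtype ≫ ((cechComplexFunctor U).obj P).d (p + 1) (p + 2) = 0 :=
  AddCommGrpCat.hom_ext (AddMonoidHom.ext fun z => z.2)

/-- The inclusion into cycles. -/
noncomputable def toCyc (p : ℕ) :
    AddCommGrpCat.of (Zc U P p) ⟶ ((cechComplexFunctor U).obj P).cycles (p + 1) :=
  ((cechComplexFunctor U).obj P).liftCycles (AddCommGrpCat.ofHom (Zc U P p).subtype) (p + 2)
    (by simp) (subtype_comp_d U P p)

/-- The class of a cocycle. -/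
noncomputable def cls (p : ℕ) : Zc U P p →+ CohTop.cechH P U (p + 1) :=
  (toCyc U P p ≫ ((cechComplexFunctor U).obj P).homologyπ (p + 1)).hom

theorem iCycles_injective (p : ℕ) :
    Function.Injective (((cechComplexFunctor U).obj P).iCycles p).hom :=
  (AddCommGrpCat.mono_iff_injective _).1 inferInstance

theorem iCycles_toCyc (p : ℕ) (z : Zc U P p) :
    (((cechComplexFunctor U).obj P).iCycles (p + 1)).hom ((toCyc U P p).hom z) = (z : C U P (p + 1)) :=
  ConcreteCategory.congr_hom (((cechComplexFunctor U).obj P).liftCycles_i _ (p + 2) (by simp)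
    (subtype_comp_d U P p)) z

theorem cls_surjective (p : ℕ) : Function.Surjective (cls U P p) := fun c => by
  let K := (cechComplexFunctor U).obj P
  obtain ⟨y, rfl⟩ := (AddCommGrpCat.epi_iff_surjective (K.homologyπ (p + 1))).1 inferInstance c
  have hy : (d U P (p + 1)).hom ((K.iCycles (p + 1)).hom y) = 0 :=
    ConcreteCategory.congr_hom (K.iCycles_d (p + 1) (p + 2)) y
  refine ⟨⟨(K.iCycles (p + 1)).hom y, hy⟩, congrArg (K.homologyπ (p + 1)).hom ?_⟩
  exact iCycles_injective U P (p + 1) (iCycles_toCyc U P p ⟨_, hy⟩)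

theorem cls_eq_zero_iff (p : ℕ) (z : Zc U P p) :
    cls U P p z = 0 ↔ ∃ w, (d U P p).hom w = (z : C U P (p + 1)) := by
  let K := (cechComplexFunctor U).obj P
  constructor
  · intro h
    obtain ⟨w, hw⟩ := (ShortComplex.ab_exact_iff _).1
      (ShortComplex.exact_of_g_is_cokernel (ShortComplex.mk _ _ (K.toCycles_comp_homologyπ p (p + 1)))
        (K.homologyIsCokernel p (p + 1) (by simp))) ((toCyc U P p).hom z) h
    refine ⟨w, ?_⟩
    have h2 := congrArg (K.iCycles (p + 1)).hom hw
    rw [iCycles_toCyc] at h2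
    exact (ConcreteCategory.congr_hom (K.toCycles_i p (p + 1)) w).symm.trans h2
  · rintro ⟨w, hw⟩
    have h : (K.toCycles p (p + 1)).hom w = (toCyc U P p).hom z := iCycles_injective U P (p + 1)
      (((ConcreteCategory.congr_hom (K.toCycles_i p (p + 1)) w).trans hw).trans (iCycles_toCyc U P p z).symm)
    exact (congrArg (K.homologyπ (p + 1)).hom h).symm.trans
      (ConcreteCategory.congr_hom (K.toCycles_comp_homologyπ p (p + 1)) w)

/-- Functoriality on cocycles. -/
noncomputable def mapZ {P' : (Opens X)ᵒᵖ ⥤ AddCommGrpCat.{u}} (α : P ⟶ P') (p : ℕ) (z : Zc U P p) :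
    Zc U P' p :=
  ⟨(mapC U P α (p + 1)).hom z, by
    change (d U P' (p + 1)).hom _ = 0
    rw [d_mapC, show (d U P (p + 1)).hom z = 0 from z.2, map_zero]⟩

theorem cls_mapZ {P' : (Opens X)ᵒᵖ ⥤ AddCommGrpCat.{u}} (α : P ⟶ P') (p : ℕ) (z : Zc U P p) :
    (HomologicalComplex.homologyMap ((cechComplexFunctor U).map α) (p + 1)).hom (cls U P p z) =
      cls U P' p (mapZ U P α p z) := by
  let φ := (cechComplexFunctor U).map α
  refine (ConcreteCategory.congr_hom (HomologicalComplex.homologyπ_naturality φ (p + 1))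
    ((toCyc U P p).hom z)).trans (congrArg (((cechComplexFunctor U).obj P').homologyπ (p + 1)).hom ?_)
  refine iCycles_injective U P' (p + 1) ?_
  refine ((ConcreteCategory.congr_hom (HomologicalComplex.cyclesMap_i φ (p + 1))
    ((toCyc U P p).hom z)).trans ?_).trans (iCycles_toCyc U P' p (mapZ U P α p z)).symm
  exact congrArg (φ.f (p + 1)).hom (iCycles_toCyc U P p z)

end Groth.Agent.H10Coh.CechCls
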