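import Groth.Agent.H10Coh.Pn.HyperPn
import Groth.Agent.H10Coh.FibreLift.MonoEpi
import Groth.Agent.H10Coh.Stab.Basic
import Groth.Agent.H29Ref.DDualInvertible
import Groth.Agent.H29Ref.ClassMap
import Groth.Agent.H22Alg.ProjDim
import Groth.Agent.H22Alg.IdealPowFam
import Groth.Agent.H22Alg.RegSheaf
import Groth.Agent.H19Grp.RegularSmooth
import Groth.Agent.H26Smooth.ProjSmooth
import Groth.Agent.H25Par.GPDeg
import Groth.Agent.H28Int.Core
import Groth.Agent.LeadPic.PnPic
import Groth.Agent.H17.PnExt.Twist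
import Groth.Agent.S4466

/-!
# Ideals with the Hilbert polynomial of a hypersurface
-/

set_option autoImplicit false
set_option linter.style.haveILetI false
set_option backward.isDefEq.respectTransparency.types false

noncomputable section

universe u

open CategoryTheory CategoryTheory.Limits AlgebraicGeometry TopologicalSpace Opposite
open Groth.Agent.H8Props.FunDescent

namespace Groth.Agent.H10Coh.HyperIdeal

section Generic

variable {X : Scheme.{u}} [IsIntegral X]

omit [IsIntegral X] in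
theorem stalkMap_zero {F G : X.Modules} (x : X) (v : F.presheaf.stalk x) :
    RefHull.stalkMapₗ (0 : F ⟶ G) x v = 0 := by
  obtain ⟨U, hx, s, rfl⟩ := TopCat.Presheaf.exists_germ_eq F.presheaf v
  refine (TopCat.Presheaf.stalkFunctor_map_germ_apply U x hx (0 : F ⟶ G).mapPresheaf s).trans ?_
  exact map_zero _

/-- A submodule of the structure module with zero generic stalk is zero. -/
theorem isZero_of_generic {G : X.Modules} (j : G ⟶ Coh.structureModule X) [Mono j]
    (h : ∀ v, RefHull.stalkMapₗ j (genericPoint X) v = 0) : IsZero G := by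
  refine (IsZero.iff_id_eq_zero _).2 (Scheme.Modules.hom_ext _ _ fun U => ?_)
  ext s
  refine H10Coh.FibreLift.app_injective_of_mono j U ?_
  refine (Eq.trans ?_ (map_zero _).symm)
  rcases (U : Set X).eq_empty_or_nonempty with hU | ⟨y, hy⟩
  · have hU' : U = ⊥ := Opens.ext hU
    subst hU'
    exact Subsingleton.elim (α := Γ(X, ⊥)) _ _
  · have hη : genericPoint X ∈ U := (genericPoint_specializes y).mem_open U.2 hy
    haveI : Nonempty U := ⟨⟨y, hy⟩⟩
    have h0 := h (G.presheaf.germ U _ hη s)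
    have h1 : (Coh.structureModule X).presheaf.germ U _ hη (j.app U s) = 0 := by
      rw [← h0]
      exact (TopCat.Presheaf.stalkFunctor_map_germ_apply U _ hη j.mapPresheaf s).symm
    have h2 := H29Ref.germ_unit_eq_smul (X := X) (genericPoint X) hη (j.app U s)
    rw [h1] at h2
    have h3 : X.presheaf.germ U _ hη (j.app U s) = 0 :=
      (H29Ref.bijective_smul_oneStalk (genericPoint X)).1 (h2.symm.trans (zero_smul _ _).symm)
    exact germ_injective_of_isIntegral X (genericPoint X) hη (h3.trans (map_zero _).symm)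

end Generic

section Pn

variable (k : Type u) [Field k] (r : ℕ)

local notation "ℙk" => CohB1.ProjSpace r k
local notation "O[" t "]" => Twist.twistProjSpace r k t

theorem proper_over : IsProper (ℙk ↘ Spec (CommRingCat.of k)) := H27Weil.isProper_toSpec r k

theorem regular_stalk (x : ℙk) : IsRegularLocalRing ((ℙk).presheaf.stalk x) :=
  H19Grp.isRegularLocalRing_stalk_of_smooth (CohB1.ProjSpace.toSpec r k) x

theorem tensor_tensorPow (F : (ℙk).Modules) (m : ℕ) :
    Nonempty (CohB1.tensorMod F (CohB1.tensorPow O[1] m) ≅ CohB1.tensorMod F O[(m : ℤ)]) := by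
  obtain ⟨i⟩ := H11Tilde.nonempty_twist_iso_tensorPow (CohB1.polyGrading r k)
    (fun x => by
      obtain ⟨j, hj⟩ := H11Ample.exists_mem_basicOpen_X (n := r) (R := k) x
      exact ⟨_, H11Ample.X_mem j, hj⟩) m
  exact ⟨PicGrp.tensorModIso (Iso.refl F) i.symm⟩

theorem nonempty_twist_add {a b c : ℤ} (h : c = a + b) :
    Nonempty (CohB1.tensorMod O[a] O[b] ≅ O[c]) :=
  H17.PnExt.nonempty_tensor_od r k h

theorem euler_twist (hr : 0 < r) (t : ℤ) :
    Curv2.euler k ℙk O[t] = Ring.choose (t + r) r := by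
  haveI := proper_over k r
  rw [H25Euler.euler_eq_sum O[t] (r + 1)
    (fun p hp => H10Coh.Pn.subsingleton_HH_Od (R := k) p (by omega) (by omega))]
  exact S4466.result k r hr t

variable {k r}

variable (I : (CohB1.ProjSpace r k).IdealSheafData)

/-- The open set where the ideal is invertible. -/
def freeLocus : (ℙk).Opens :=
  ⟨{x | StalkFree (ClSub.idealMod I) 1 x}, by
    refine isOpen_iff_forall_mem_open.2 fun x hx => ?_
    haveI := proper_over k r
    haveI := H28Int.isNoetherian k (X := ℙk)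
    have hc := H22Alg.IdealPowFam.isCoh_idealMod I
    obtain ⟨V, hxV, hV⟩ := isFreeOfRankNear_of_stalkFree_of_isFP _ (H10Coh.isFP_of_isCoh _ hc) hx
    exact ⟨V, fun y hy => stalkFree_of_isFreeOfRankNear _ hc.1 ⟨V, hy, hV⟩, V.2, hxV⟩⟩

theorem mem_freeLocus_of_dim_le (hI : ¬ IsZero (ClSub.idealMod I)) (x : ℙk)
    (hx : ringKrullDim ((ℙk).presheaf.stalk x) ≤ 1) : x ∈ freeLocus I := by
  classical
  haveI := proper_over k r
  haveI := H28Int.isNoetherian k (X := ℙk)
  haveI := Hyper.isIntegral_pn k r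
  haveI := regular_stalk k r x
  haveI : IsDomain ((ℙk).presheaf.stalk x) := H4Depth.isDomain_of_isRegularLocalRing _
  haveI : Mono (ClSub.idealModι I) := inferInstanceAs (Mono (kernel.ι _))
  have hc := H22Alg.IdealPowFam.isCoh_idealMod I
  let R := (ℙk).presheaf.stalk x
  let ψ : (ClSub.idealMod I).presheaf.stalk x →ₗ[R] R :=
    (H29Ref.unitEquiv x).symm.toLinearMap ∘ₗ H06Mod.stalkLin (ClSub.idealModι I) x
  have hψ : Function.Injective ψ :=
    (H29Ref.unitEquiv x).symm.injective.comp (H10Coh.FibreLift.injective_stalkLin_of_mono _ x)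
  haveI : Module.IsTorsionFree R ((ClSub.idealMod I).presheaf.stalk x) :=
    hψ.moduleIsTorsionFree ψ (map_smul ψ)
  haveI := H29Ref.finite_stalk (ClSub.idealMod I) hc.2 x
  haveI := H29Ref.free_of_isTorsionFree (R := R) ((ClSub.idealMod I).presheaf.stalk x) hx
  let p := Module.finrank R ((ClSub.idealMod I).presheaf.stalk x)
  have hp : StalkFree (ClSub.idealMod I) p x := ⟨Module.finBasis _ _⟩
  have hle : p ≤ 1 := (LinearMap.finrank_le_finrank_of_injective hψ).trans_eq (Module.finrank_self R)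
  suffices p ≠ 0 by
    show StalkFree (ClSub.idealMod I) 1 x
    rw [show (1 : ℕ) = p by omega]
    exact hp
  intro hp0
  refine hI ?_
  obtain ⟨V, hxV, hV⟩ := isFreeOfRankNear_of_stalkFree_of_isFP _ (H10Coh.isFP_of_isCoh _ hc) hp
  have hη : genericPoint ℙk ∈ V := (genericPoint_specializes x).mem_open V.2 hxV
  obtain ⟨b⟩ := stalkFree_of_isFreeOfRankNear _ hc.1 (x := genericPoint ℙk) ⟨V, hη, hV⟩
  refine isZero_of_generic (ClSub.idealModι I) fun v => ?_
  haveI : Subsingleton ((ClSub.idealMod I).presheaf.stalk (genericPoint ℙk)) := by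
    haveI : IsEmpty (Fin p) := by rw [hp0]; infer_instance
    exact b.repr.toEquiv.subsingleton
  rw [Subsingleton.elim v 0, map_zero]

theorem qdim_le_of_notMem (hI : ¬ IsZero (ClSub.idealMod I)) (x : ℙk) (hx : x ∉ freeLocus I) :
    H22Alg.ProjDim.qdim k r x + 1 ≤ r := by
  have h2 : (2 : ℕ∞) ≤ Order.coheight x := by
    by_contra h
    refine hx (mem_freeLocus_of_dim_le I hI x ?_)
    rw [ringKrullDim_stalk_eq_coheight x]
    exact_mod_cast (show Order.coheight x ≤ 1 from
      Order.le_of_lt_add_one (show Order.coheight x < 1 + 1 by rw [one_add_one_eq_two]; exact not_le.1 h))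
  obtain ⟨p, hp0, hp⟩ := Order.exists_series_of_le_coheight x (n := 2) h2
  have hlt : ∀ a b : ℙk, a < b → H22Alg.ProjDim.qdim k r a < H22Alg.ProjDim.qdim k r b := by
    intro a b h
    refine H22Alg.ProjDim.qdim_lt k r (lt_of_le_not_ge ?_ fun h' => h.not_ge ?_)
    · exact (H22Alg.ProjDim.le_iff_specializes k r b a).2 h.le
    · exact (H22Alg.ProjDim.le_iff_specializes k r a b).1 h'
  have h := LTSeries.head_add_length_le_nat (p.map (fun a => H22Alg.ProjDim.qdim k r a) hlt)
  rw [LTSeries.head_map, LTSeries.last_map] at h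
  have hl := H22Alg.ProjDim.qdim_le_succ k r p.last
  change H22Alg.ProjDim.qdim k r p.head + p.length ≤ H22Alg.ProjDim.qdim k r p.last at h
  rw [hp] at h
  rw [← hp0]
  change H22Alg.ProjDim.qdim k r p.head + 1 ≤ r
  omega

theorem dim_freeLocus_compl (hr : 1 ≤ r) (hI : ¬ IsZero (ClSub.idealMod I)) :
    topologicalKrullDim ((freeLocus I : Set ℙk)ᶜ : Set ℙk) < ((r - 1 : ℕ) : WithBot ℕ∞) := by
  have hA : IsClosed ((freeLocus I : Set ℙk)ᶜ) := (freeLocus I).2.isClosed_compl
  rcases le_or_gt r 1 with h | h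
  · haveI : IsEmpty ((freeLocus I : Set ℙk)ᶜ : Set ℙk) := Set.isEmpty_coe_sort.2
      (Set.eq_empty_of_forall_notMem fun x hx => by
        have := qdim_le_of_notMem I hI x hx
        have := H22Alg.ProjDim.qdim_pos k r x
        omega)
    haveI : IsEmpty (IrreducibleCloseds ((freeLocus I : Set ℙk)ᶜ : Set ℙk)) :=
      ⟨fun Z => isEmptyElim Z.isIrreducible.nonempty.some⟩
    rw [topologicalKrullDim, Order.krullDim_eq_bot]
    exact WithBot.bot_lt_coe _
  · refine lt_of_le_of_lt (H22Alg.ProjDim.dim_le k r hA (d := r - 2) fun x hx => ?_) ?_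
    · have := qdim_le_of_notMem I hI x hx
      omega
    · exact WithBot.coe_lt_coe.2 (ENat.natCast_lt_natCast.2 (by omega))

omit I in
theorem isAddFn_D_twist (l : ℕ) :
    H28Int.IsAddFn (H28Int.D k (List.replicate l O[(1 : ℤ)])) :=
  haveI := proper_over k r
  H28Int.isAddFn_D k _ fun A hA => by
    rw [List.eq_of_mem_replicate hA]
    exact H22Alg.RegSheaf.isInvertible_twistProjSpace r k 1

omit I in
theorem D_replicate (Q : (ℙk).Modules) (a b : ℤ)
    (hQ : ∀ m : ℤ, Curv2.euler k ℙk (CohB1.tensorMod Q O[m]) = Ring.choose (m + a) r - Ring.choose (m + b) r) :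
    ∀ j i : ℕ, i + j = r → ∀ m : ℤ, H28Int.D k (List.replicate j O[(1 : ℤ)]) (CohB1.tensorMod Q O[m]) =
      (-1) ^ j * (Ring.choose (m + a) i - Ring.choose (m + b) i) := by
  intro j
  induction j with
  | zero =>
    intro i hi m
    obtain rfl : i = r := by omega
    rw [pow_zero, one_mul, List.replicate_zero]
    exact hQ m
  | succ j ih =>
    intro i hi m
    obtain ⟨e⟩ := nonempty_twist_add k r (show m + 1 = m + 1 from rfl)
    rw [List.replicate_succ]
    show H28Int.D k (List.replicate j O[(1 : ℤ)]) _ - H28Int.D k (List.replicate j O[(1 : ℤ)]) _ = _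
    rw [(isAddFn_D_twist j).congr (H10Coh.Tw.commIso O[(1 : ℤ)] (CohB1.tensorMod Q O[m]) ≪≫
      H10Coh.Tw.assoc Q O[m] O[(1 : ℤ)] ≪≫ PicGrp.tensorModIso (Iso.refl Q) e),
      ih (i + 1) (by omega) m, ih (i + 1) (by omega) (m + 1),
      show m + 1 + a = (m + a) + 1 by ring, show m + 1 + b = (m + b) + 1 by ring,
      Ring.choose_succ_succ, Ring.choose_succ_succ, pow_succ]
    ring

/-- An ideal with the Hilbert polynomial of the twist `O(-d)` is isomorphic to it. -/
theorem nonempty_iso_twist (hr : 1 ≤ r) (d : ℤ)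
    (hP : ∀ t : ℤ, Curv2.euler k ℙk (CohB1.tensorMod (ClSub.idealMod I) O[t]) = Ring.choose (t - d + r) r) :
    Nonempty (ClSub.idealMod I ≅ O[-d]) := by
  haveI := proper_over k r
  haveI := H28Int.isNoetherian k (X := ℙk)
  haveI := Hyper.isIntegral_pn k r
  haveI hιm : Mono (ClSub.idealModι I) := inferInstanceAs (Mono (kernel.ι _))
  have hinv : ∀ t, PicF.IsInvertible O[t] := fun t => H22Alg.RegSheaf.isInvertible_twistProjSpace r k t
  have hc := H22Alg.IdealPowFam.isCoh_idealMod I
  have hI : ¬ IsZero (ClSub.idealMod I) := fun h0 => by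
    have h1 := hP d
    rw [sub_self, zero_add, Ring.choose_natCast, Nat.choose_self, Nat.cast_one] at h1
    have h2 : IsZero (CohB1.tensorMod (ClSub.idealMod I) O[d]) :=
      Functor.map_isZero ((DCoh.tensorBi (X := ℙk)).flip.obj O[d]) h0
    rw [H25Euler.euler_eq_zero_of_isZero h2] at h1
    exact zero_ne_one h1
  have hη : genericPoint ℙk ∈ freeLocus I := by
    refine mem_freeLocus_of_dim_le I hI _ ?_
    rw [ringKrullDim_stalk_eq_coheight, Order.coheight_eq_zero.2 (fun b _ => genericPoint_specializes b)]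
    exact zero_le_one
  obtain ⟨hM, hbij⟩ := H29Ref.isInvertible_ddual (ClSub.idealMod I) hc (freeLocus I)
    ((freeLocus I).2.dense ⟨_, hη⟩) (fun x hx => hx) (fun x _ => by
      haveI := regular_stalk k r x
      haveI : IsDomain ((ℙk).presheaf.stalk x) := H4Depth.isDomain_of_isRegularLocalRing _
      exact H28Alg.ufd_of_regular _)
  let φ := RefHull.bidualMap (ClSub.idealMod I)
  haveI : Mono φ := Preadditive.mono_of_isZero_kernel _ (isZero_of_generic
    (kernel.ι φ ≫ ClSub.idealModι I) fun v => by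
      have h1 : RefHull.stalkMapₗ φ (genericPoint ℙk) (RefHull.stalkMapₗ (kernel.ι φ) (genericPoint ℙk) v) = 0 := by
        rw [← H29Ref.stalkMapₗ_comp_apply, kernel.condition]
        exact stalkMap_zero _ v
      have h2 := (hbij _ hη).1 (h1.trans (map_zero _).symm)
      rw [H29Ref.stalkMapₗ_comp_apply, h2, map_zero])
  obtain ⟨e, ⟨eM⟩⟩ := LeadPic.Pn.exists_iso_twist r k hM
  have hMc : Coh.IsCoh (RefHull.ddual (ClSub.idealMod I)) := H29Ref.isCoh_ddual _ hc
  let Q := cokernel φ
  have hQc : Coh.IsCoh Q := H10Coh.isCoh_cokernel φ hc.1 hMc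
  have hQt : ∀ m : ℤ, Curv2.euler k ℙk (CohB1.tensorMod Q O[m]) =
      Ring.choose (m + (e + r)) r - Ring.choose (m + (r - d)) r := fun m => by
    have hS : (ShortComplex.mk φ (cokernel.π φ) (cokernel.condition _)).ShortExact :=
      { exact := ShortComplex.exact_cokernel _ }
    have h := H25Euler.euler_add (k := k) (H28Int.tensor_shortExact hS (hinv m))
      (H11Ample.isCoh_tensor hc (hinv m)) (H11Ample.isCoh_tensor hMc (hinv m))
      (H11Ample.isCoh_tensor hQc (hinv m))
    obtain ⟨e'⟩ := nonempty_twist_add k r (show e + m = e + m from rfl)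
    change Curv2.euler k ℙk (CohB1.tensorMod (RefHull.ddual (ClSub.idealMod I)) O[m]) =
      Curv2.euler k ℙk (CohB1.tensorMod (ClSub.idealMod I) O[m]) + Curv2.euler k ℙk (CohB1.tensorMod Q O[m]) at h
    rw [H25Euler.euler_congr (PicGrp.tensorModIso eM (Iso.refl O[m]) ≪≫ e'), euler_twist k r hr, hP] at h
    rw [show m + (e + r) = e + m + r by ring, show m + (r - d) = m - d + r by ring]
    omega
  have hsupp : CohB1.support Q ⊆ (freeLocus I : Set ℙk)ᶜ := fun x hx hxD =>
    (H25Euler.notMem_support_kernel_cokernel φ ((ConcreteCategory.isIso_iff_bijective _).2 (hbij x hxD))).2 hx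
  have hD := H28Int.D_eq_zero k (List.replicate (r - 1) O[(1 : ℤ)])
    (fun A hA => List.eq_of_mem_replicate hA ▸ hinv 1) (CohB1.tensorMod Q O[(0 : ℤ)])
    (H11Ample.isCoh_tensor hQc (hinv 0)) (by
      rw [List.length_replicate]
      exact lt_of_le_of_lt (H28Int.dim_le_of_subset ((H25Euler.support_tensor_subset Q _).trans hsupp))
        (dim_freeLocus_compl I hr hI))
  rw [D_replicate Q _ _ hQt (r - 1) 1 (by omega) 0, Ring.choose_one_right', Ring.choose_one_right'] at hD
  have hed : e = -d := by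
    have := (mul_eq_zero.1 hD).resolve_left (pow_ne_zero _ (by norm_num))
    simp only [pow_one] at this
    omega
  subst hed
  have hQ0 : IsZero Q := Stab.isZero_of_hilbPoly_zero (k := k) (H11Ample.isAmple_twistProjSpace r k) hQc
    fun m => by
      obtain ⟨i⟩ := tensor_tensorPow k r Q m
      rw [show ShStab.twist ℙk O[(1 : ℤ)] Q m = CohB1.tensorMod Q (CohB1.tensorPow O[(1 : ℤ)] m) from rfl,
        H25Euler.euler_congr i, hQt, show -d + (r : ℤ) = r - d by ring, sub_self, Int.cast_zero, Polynomial.eval_zero]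
  haveI : Epi φ := Preadditive.epi_of_isZero_cokernel _ hQ0
  haveI : IsIso φ := isIso_of_mono_of_epi φ
  exact ⟨asIso φ ≪≫ eM⟩

end Pn

end Groth.Agent.H10Coh.HyperIdeal
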