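import Mathlib.Algebra.MonoidAlgebra.MapDomain
import Mathlib.Algebra.MonoidAlgebra.Basic
import Mathlib.Algebra.MvPolynomial.Basic
import Mathlib.RingTheory.MvPolynomial.Homogeneous
import Mathlib.Tactic

/-!
# Laurent polynomials and the monomials allowed on an intersection of standard opens
-/

universe u

namespace Groth.Agent.H10Coh.Pn

variable (n : ℕ) (R : Type u) [CommRing R]

/-- Exponent vectors. -/
abbrev Expo : Type := Fin (n + 1) →₀ ℤ

/-- Laurent polynomials in `n + 1` variables. -/
abbrev L : Type u := AddMonoidAlgebra R (Expo n)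

/-- The inclusion of exponents. -/
noncomputable def castE : (Fin (n + 1) →₀ ℕ) →+ Expo n :=
  Finsupp.mapRange.addMonoidHom (Nat.castAddMonoidHom ℤ)

theorem castE_apply (q : Fin (n + 1) →₀ ℕ) (i : Fin (n + 1)) : castE n q i = (q i : ℤ) := rfl

theorem castE_injective : Function.Injective (castE n) := fun p q h =>
  Finsupp.ext fun i => Nat.cast_injective (R := ℤ) (DFunLike.congr_fun h i)

/-- Polynomials as Laurent polynomials. -/
noncomputable def toL : MvPolynomial (Fin (n + 1)) R →+* L n R :=
  AddMonoidAlgebra.mapDomainRingHom R (castE n)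

theorem toL_injective : Function.Injective (toL n R) :=
  AddMonoidAlgebra.mapDomain_injective (castE_injective n)

theorem toL_monomial (q : Fin (n + 1) →₀ ℕ) (r : R) :
    toL n R (MvPolynomial.monomial q r) = AddMonoidAlgebra.single (castE n q) r :=
  AddMonoidAlgebra.mapDomain_single

variable {n R}

/-- The monomial `T^e`. -/
noncomputable def T (e : Expo n) : L n R := AddMonoidAlgebra.single e 1

theorem T_mul (e e' : Expo n) : (T e : L n R) * T e' = T (e + e') := by
  rw [T, T, T, AddMonoidAlgebra.single_mul_single, one_mul]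

theorem T_zero : (T (0 : Expo n) : L n R) = 1 := rfl

theorem T_mul_cancel (e : Expo n) (z w : L n R) (h : z * T e = w * T e) : z = w := by
  have := congrArg (· * T (-e)) h
  simpa [mul_assoc, T_mul, T_zero] using this

/-- The total degree. -/
def deg (e : Expo n) : ℤ := ∑ i, e i

theorem deg_add (e e' : Expo n) : deg (e + e') = deg e + deg e' := Finset.sum_add_distrib

theorem deg_neg (e : Expo n) : deg (-e) = -deg e := by
  simp [deg]

theorem deg_castE (q : Fin (n + 1) →₀ ℕ) : deg (castE n q) = (q.degree : ℤ) := by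
  rw [Finsupp.degree_eq_sum, Nat.cast_sum]
  rfl

/-- The exponents allowed in degree `d` where the variables indexed by `S` are inverted. -/
def allowed (d : ℤ) (S : Set (Fin (n + 1))) : Set (Expo n) :=
  {e | deg e = d ∧ ∀ i, i ∉ S → 0 ≤ e i}

theorem allowed_mono (d : ℤ) {S S' : Set (Fin (n + 1))} (h : S ⊆ S') :
    allowed d S ⊆ allowed (n := n) d S' :=
  fun _ he => ⟨he.1, fun i hi => he.2 i fun hS => hi (h hS)⟩

/-- The Laurent polynomials supported in allowed exponents. -/
def allowedSub (R : Type u) [CommRing R] (d : ℤ) (S : Set (Fin (n + 1))) : Submodule R (L n R) where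
  carrier := {z | ∀ e, z.coeff e ≠ 0 → e ∈ allowed d S}
  zero_mem' := fun e he => (he (by simp)).elim
  add_mem' := fun {z w} hz hw e he => by
    by_cases h : z.coeff e = 0
    · exact hw e fun h' => he (by simp [h, h'])
    · exact hz e h
  smul_mem' := fun r z hz e he => hz e fun h => he (by simp [h])

theorem mem_allowedSub {d : ℤ} {S : Set (Fin (n + 1))} {z : L n R} :
    z ∈ allowedSub R d S ↔ ∀ e, z.coeff e ≠ 0 → e ∈ allowed d S := Iff.rfl

theorem toL_mul_T_mem {d : ℤ} {S : Set (Fin (n + 1))} {i : ℕ} {m : MvPolynomial (Fin (n + 1)) R}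
    (hm : m.IsHomogeneous i) (q : Fin (n + 1) →₀ ℕ) (hdeg : (i : ℤ) = q.degree + d)
    (hq : ∀ j, j ∉ S → q j = 0) : toL n R m * T (-castE n q) ∈ allowedSub R d S := by
  rw [m.as_sum, map_sum, Finset.sum_mul]
  refine Submodule.sum_mem _ fun p hp => ?_
  rw [toL_monomial, T, AddMonoidAlgebra.single_mul_single]
  intro e he
  rw [AddMonoidAlgebra.coeff_single, Finsupp.single_apply] at he
  have he' : castE n p + -castE n q = e := by
    by_contra h
    exact he (if_neg h)
  subst he'
  have hp' : p.degree = i := by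
    rw [Finsupp.degree_eq_weight_one]
    exact hm (MvPolynomial.mem_support_iff.1 hp)
  refine ⟨?_, fun j hj => ?_⟩
  · rw [deg_add, deg_neg, deg_castE, deg_castE, hp']
    omega
  · simp [castE_apply, hq j hj]

theorem exists_polynomial_of_mem {d : ℤ} {S : Set (Fin (n + 1))} {z : L n R}
    (hz : z ∈ allowedSub R d S) (q₀ : Fin (n + 1) →₀ ℕ) (hq₀ : ∀ j, j ∈ S → 0 < q₀ j) :
    ∃ N : ℕ, ∀ K, N ≤ K → ∃ (i : ℕ) (m : MvPolynomial (Fin (n + 1)) R), m.IsHomogeneous i ∧
      toL n R m = z * T (castE n (K • q₀)) ∧ ((i : ℤ) = (K • q₀).degree + d ∨ z = 0) := by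
  refine ⟨z.coeff.support.sup fun e => Finset.univ.sup fun j => (e j).natAbs, fun K hK => ?_⟩
  have hpos : ∀ e ∈ z.coeff.support, ∀ j, 0 ≤ e j + castE n (K • q₀) j := fun e he j => by
    rw [castE_apply, Finsupp.smul_apply, smul_eq_mul, Nat.cast_mul]
    by_cases hj : j ∈ S
    · have h1 : (e j).natAbs ≤ K := le_trans (le_trans (Finset.le_sup (f := fun j => (e j).natAbs) (Finset.mem_univ j))
        (Finset.le_sup (f := fun e => Finset.univ.sup fun j => (e j).natAbs) he)) hK
      have h2 : (K : ℤ) ≤ K * q₀ j := le_mul_of_one_le_right (by positivity) (by exact_mod_cast hq₀ j hj)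
      omega
    · exact add_nonneg ((hz e (Finsupp.mem_support_iff.1 he)).2 j hj) (by positivity)
  let p : Expo n → (Fin (n + 1) →₀ ℕ) := fun e =>
    Finsupp.equivFunOnFinite.symm fun j => ((e + castE n (K • q₀)) j).toNat
  refine ⟨(((K • q₀).degree : ℤ) + d).toNat, ∑ e ∈ z.coeff.support, MvPolynomial.monomial (p e) (z.coeff e),
    ?_, ?_, ?_⟩
  · refine MvPolynomial.IsHomogeneous.sum _ _ _ fun e he => MvPolynomial.isHomogeneous_monomial _ ?_
    have h : deg (castE n (p e)) = ((K • q₀).degree : ℤ) + d := by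
      have : castE n (p e) = e + castE n (K • q₀) := Finsupp.ext fun j => by
        simp only [castE_apply, p, Finsupp.equivFunOnFinite_symm_apply_apply]
        exact Int.toNat_of_nonneg (hpos e he j)
      rw [this, deg_add, deg_castE, (hz e (Finsupp.mem_support_iff.1 he)).1]
      ring
    rw [deg_castE] at h
    omega
  · rw [map_sum]
    conv_rhs => rw [← AddMonoidAlgebra.sum_coeff_single z, Finsupp.sum, Finset.sum_mul]
    refine Finset.sum_congr rfl fun e he => ?_
    rw [toL_monomial, T, AddMonoidAlgebra.single_mul_single, mul_one]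
    congr 1
    exact Finsupp.ext fun j => by
      simp only [castE_apply, p, Finsupp.equivFunOnFinite_symm_apply_apply, Finsupp.add_apply]
      exact Int.toNat_of_nonneg (hpos e he j)
  · by_cases h : z = 0
    · exact Or.inr h
    · refine Or.inl ?_
      obtain ⟨e, he⟩ : ∃ e, z.coeff e ≠ 0 := by
        by_contra hc
        push Not at hc
        exact h (AddMonoidAlgebra.ext (by ext e; simpa using hc e))
      have h1 : 0 ≤ deg (e + castE n (K • q₀)) :=
        Finset.sum_nonneg fun j _ => hpos e (Finsupp.mem_support_iff.2 he) j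
      rw [deg_add, deg_castE, (hz e he).1] at h1
      omega

end Groth.Agent.H10Coh.Pn
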