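import Groth.Agent.H10Coh.Pn.Laurent
import Groth.Agent.H11Tilde.QCoh
import Groth.Prelude.Def_CohB1

/-!
# Sections of `O(d)` on intersections of standard opens of projective space
-/

universe u

open CategoryTheory AlgebraicGeometry TopologicalSpace Opposite MvPolynomial
open Groth.Agent.H11Tilde

namespace Groth.Agent.H10Coh.Pn

variable (n : ℕ) (R : Type u) [CommRing R]

/-- The grading. -/
noncomputable abbrev Gr : ℕ → Submodule R (MvPolynomial (Fin (n + 1)) R) := CohB1.polyGrading n R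

/-- `O(d)`. -/
noncomputable abbrev Od (d : ℤ) : (Proj (Gr n R)).Modules := GrMod.tilde (Gr n R) (Gr n R) d

variable {n R}

/-- The monomial with exponent `q`. -/
noncomputable abbrev mon (q : Fin (n + 1) →₀ ℕ) : MvPolynomial (Fin (n + 1)) R := monomial q 1

theorem mon_mem (q : Fin (n + 1) →₀ ℕ) : (mon q : MvPolynomial (Fin (n + 1)) R) ∈ Gr n R q.degree :=
  isHomogeneous_monomial 1 rfl

theorem mon_mul (q q' : Fin (n + 1) →₀ ℕ) :
    (mon q : MvPolynomial (Fin (n + 1)) R) * mon q' = mon (q + q') := by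
  rw [mon, mon, mon, monomial_mul, one_mul]

theorem mon_pow (q : Fin (n + 1) →₀ ℕ) (k : ℕ) :
    (mon q : MvPolynomial (Fin (n + 1)) R) ^ k = mon (k • q) := by
  rw [mon, mon, monomial_pow, one_pow]

theorem toL_mon (q : Fin (n + 1) →₀ ℕ) : toL n R (mon q) = T (castE n q) := toL_monomial n R q 1

variable {d : ℤ}

/-- `z` is the Laurent polynomial of the section `σ`. -/
def IsRep {U : (Proj (Gr n R)).Opens} (σ : Γ(Od n R d, U)) (z : L n R) : Prop :=
  ∃ (i : ℕ) (m : MvPolynomial (Fin (n + 1)) R) (q : Fin (n + 1) →₀ ℕ)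
    (hq : ∀ x ∈ U, mon q ∉ x.asHomogeneousIdeal), m ∈ Gr n R i ∧ (i : ℤ) = q.degree + d ∧
    z = toL n R m * T (-castE n q) ∧
    ∀ x : U, sval (Gr n R) (Gr n R) σ x = fracAt (Gr n R) x.1 m (mon q) (hq x.1 x.2)

/-- The standard open of a monomial. -/
noncomputable abbrev Dm (q : Fin (n + 1) →₀ ℕ) : (Proj (Gr n R)).Opens := Proj.basicOpen (Gr n R) (mon q)

theorem IsRep.res {U V : (Proj (Gr n R)).Opens} (h : V ≤ U) {σ : Γ(Od n R d, U)} {z : L n R}
    (hz : IsRep σ z) : IsRep ((Od n R d).presheaf.map (homOfLE h).op σ) z := by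
  obtain ⟨i, m, q, hq, hm, hd, hz, hv⟩ := hz
  exact ⟨i, m, q, fun x hx => hq x (h hx), hm, hd, hz, fun x =>
    (sval_map (Gr n R) (Gr n R) h σ x).trans (hv ⟨x.1, h x.2⟩)⟩

theorem IsRep.exists_dvd {U : (Proj (Gr n R)).Opens} {σ : Γ(Od n R d, U)} {z : L n R}
    (hz : IsRep σ z) (q' : Fin (n + 1) →₀ ℕ) (hq' : ∀ x ∈ U, mon q' ∉ x.asHomogeneousIdeal) :
    ∃ (i : ℕ) (m : MvPolynomial (Fin (n + 1)) R) (q : Fin (n + 1) →₀ ℕ)
      (hq : ∀ x ∈ U, mon q ∉ x.asHomogeneousIdeal), q' ≤ q ∧ m ∈ Gr n R i ∧ (i : ℤ) = q.degree + d ∧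
      z = toL n R m * T (-castE n q) ∧
      ∀ x : U, sval (Gr n R) (Gr n R) σ x = fracAt (Gr n R) x.1 m (mon q) (hq x.1 x.2) := by
  obtain ⟨i, m, q, hq, hm, hd, rfl, hv⟩ := hz
  have hne : ∀ x ∈ U, mon (q + q') ∉ x.asHomogeneousIdeal := fun x hx => by
    rw [← mon_mul]; exact mul_notMem (Gr n R) (hq x hx) (hq' x hx)
  refine ⟨i + q'.degree, m * mon q', q + q', hne, by simp, SetLike.mul_mem_graded hm (mon_mem q'),
    ?_, ?_, fun x => ?_⟩
  · simp only [map_add, Nat.cast_add]; omega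
  · rw [map_mul, toL_mon, mul_assoc, T_mul, map_add]
    simp
  · rw [hv x]
    refine fracAt_eq_of (Gr n R) x.1 (hq x.1 x.2) (hne x.1 x.2) ?_
    rw [smul_eq_mul, smul_eq_mul, ← mon_mul]
    ring

theorem IsRep.unique {U : (Proj (Gr n R)).Opens} {q₀ : Fin (n + 1) →₀ ℕ} (hpos : 0 < q₀.degree)
    (hU : Dm q₀ ≤ U) {σ : Γ(Od n R d, U)} {z z' : L n R} (h : IsRep σ z) (h' : IsRep σ z') :
    z = z' := by
  obtain ⟨i, m, q, hq, hm, hd, rfl, hv⟩ := h
  obtain ⟨i', m', q', hq', hm', hd', rfl, hv'⟩ := h'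
  have key : (mon q' : MvPolynomial (Fin (n + 1)) R) • m - (mon q : MvPolynomial (Fin (n + 1)) R) • m' ∈ Gr n R (q'.degree + i) := by
    refine Submodule.sub_mem _ (SetLike.mul_mem_graded (mon_mem q') hm) ?_
    rw [show q'.degree + i = q.degree + i' by omega]
    exact SetLike.mul_mem_graded (mon_mem q) hm'
  obtain ⟨N, hN⟩ := exists_pow_smul_eq_zero (Gr n R) (Gr n R) hpos (mon_mem q₀) key fun x hx =>
    exists_of_fracAt_eq (Gr n R) x (hq x (hU hx)) (hq' x (hU hx))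
      ((hv ⟨x, hU hx⟩).symm.trans (hv' ⟨x, hU hx⟩))
  have h2 := congrArg (toL n R) hN
  rw [smul_eq_mul, smul_eq_mul, smul_eq_mul, mon_pow, map_mul, map_sub, map_mul, map_mul, map_zero,
    toL_mon, toL_mon, toL_mon] at h2
  have h3 := T_mul_cancel (castE n (N • q₀)) (T (castE n q') * toL n R m)
    (T (castE n q) * toL n R m') (by linear_combination h2)
  refine T_mul_cancel (castE n q + castE n q') _ _ ?_
  rw [mul_assoc, mul_assoc, T_mul, T_mul, neg_add_cancel_left,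
    show -castE n q' + (castE n q + castE n q') = castE n q by abel]
  rw [mul_comm _ (T _), mul_comm _ (T _)]
  exact h3

theorem sval_add' {U : (Proj (Gr n R)).Opens} (σ τ : Γ(Od n R d, U)) (x : U) :
    sval (Gr n R) (Gr n R) (σ + τ) x = sval (Gr n R) (Gr n R) σ x + sval (Gr n R) (Gr n R) τ x := rfl

theorem IsRep.add {U : (Proj (Gr n R)).Opens} {σ τ : Γ(Od n R d, U)} {z w : L n R} (h : IsRep σ z)
    (h' : IsRep τ w) : IsRep (σ + τ) (z + w) := by
  obtain ⟨i, m, q, hq, hm, hd, rfl, hv⟩ := h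
  obtain ⟨i', m', q', hq', hm', hd', rfl, hv'⟩ := h'
  have hne : ∀ x ∈ U, mon (q + q') ∉ x.asHomogeneousIdeal := fun x hx => by
    rw [← mon_mul]; exact mul_notMem (Gr n R) (hq x hx) (hq' x hx)
  refine ⟨i + q'.degree, m * mon q' + m' * mon q, q + q', hne,
    Submodule.add_mem _ (SetLike.mul_mem_graded hm (mon_mem q')) ?_, ?_, ?_, fun x => ?_⟩
  · rw [show i + q'.degree = i' + q.degree by omega]
    exact SetLike.mul_mem_graded hm' (mon_mem q)
  · simp only [map_add, Nat.cast_add]; omega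
  · rw [map_add, map_mul, map_mul, toL_mon, toL_mon, add_mul, mul_assoc, mul_assoc, T_mul, T_mul, map_add]
    congr 3 <;> abel
  · refine (sval_add' σ τ x).trans ?_
    rw [hv x, hv' x]
    refine (LocalizedModule.mk_add_mk).trans ?_
    refine LocalizedModule.mk_eq.2 ⟨1, ?_⟩
    simp only [Submonoid.smul_def, Submonoid.coe_mul, smul_eq_mul, one_smul, ← mon_mul]
    ring

theorem exists_isRep {q₀ : Fin (n + 1) →₀ ℕ} (hpos : 0 < q₀.degree) (σ : Γ(Od n R d, Dm q₀)) :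
    ∃ z, IsRep σ z := by
  obtain ⟨k, i, m, hm, hd, hv⟩ := exists_eq_fracAt (Gr n R) (Gr n R) hpos (mon_mem q₀)
    (show GrMod.sect (Gr n R) (Gr n R) d (op (ProjectiveSpectrum.basicOpen (Gr n R) (mon q₀))) from σ)
  have hq : ∀ x ∈ Dm q₀, mon (R := R) (k • q₀) ∉ x.asHomogeneousIdeal := fun x hx => by
    rw [← mon_pow]; exact pow_notMem (Gr n R) hx k
  refine ⟨_, i, m, k • q₀, hq, hm, ?_, rfl, fun x => ?_⟩
  · rw [map_nsmul, smul_eq_mul, Nat.cast_mul, hd]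
  · exact (hv x (pow_notMem (Gr n R) x.2 k)).trans
      (fracAt_congr (Gr n R) x.1 _ _ rfl (mon_pow q₀ k))

/-- The Laurent polynomial of a section. -/
noncomputable def psi {q₀ : Fin (n + 1) →₀ ℕ} (hpos : 0 < q₀.degree) :
    Γ(Od n R d, Dm q₀) →+ L n R :=
  AddMonoidHom.mk' (fun σ => (exists_isRep hpos σ).choose) fun σ τ =>
    IsRep.unique hpos le_rfl (exists_isRep hpos (σ + τ)).choose_spec
      ((exists_isRep hpos σ).choose_spec.add (exists_isRep hpos τ).choose_spec)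

theorem isRep_psi {q₀ : Fin (n + 1) →₀ ℕ} (hpos : 0 < q₀.degree) (σ : Γ(Od n R d, Dm q₀)) :
    IsRep σ (psi hpos σ) := (exists_isRep hpos σ).choose_spec

theorem psi_eq {q₀ : Fin (n + 1) →₀ ℕ} (hpos : 0 < q₀.degree) {σ : Γ(Od n R d, Dm q₀)} {z : L n R}
    (h : IsRep σ z) : psi hpos σ = z :=
  IsRep.unique hpos le_rfl (isRep_psi hpos σ) h

theorem psi_res {q₀ q₁ : Fin (n + 1) →₀ ℕ} (hpos : 0 < q₀.degree) (hpos₁ : 0 < q₁.degree)
    (h : Dm q₁ ≤ Dm q₀) (σ : Γ(Od n R d, Dm q₀)) :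
    psi hpos₁ ((Od n R d).presheaf.map (homOfLE h).op σ) = psi hpos σ :=
  psi_eq hpos₁ ((isRep_psi hpos σ).res h)

theorem psi_injective {q₀ : Fin (n + 1) →₀ ℕ} (hpos : 0 < q₀.degree) :
    Function.Injective (psi (R := R) (d := d) hpos) := by
  rw [injective_iff_map_eq_zero]
  intro σ hσ
  obtain ⟨i, m, q, hq, -, -, hz, hv⟩ := isRep_psi hpos σ
  have hm : m = 0 := toL_injective n R (by
    rw [map_zero]
    exact T_mul_cancel (-castE n q) _ _ ((hz.symm.trans hσ).trans (zero_mul _).symm))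
  refine sval_ext (Gr n R) (Gr n R) fun x => ?_
  rw [hv x, sval_zero]
  subst hm
  exact fracAt_zero (Gr n R) x.1 _ _

theorem psi_mem {q₀ : Fin (n + 1) →₀ ℕ} (hpos : 0 < q₀.degree) (σ : Γ(Od n R d, Dm q₀)) :
    psi hpos σ ∈ allowedSub R d {j | 0 < q₀ j} := by
  obtain ⟨k, i, m, hm, hd, hv⟩ := exists_eq_fracAt (Gr n R) (Gr n R) hpos (mon_mem q₀)
    (show GrMod.sect (Gr n R) (Gr n R) d (op (ProjectiveSpectrum.basicOpen (Gr n R) (mon q₀))) from σ)
  have hq : ∀ x ∈ Dm q₀, mon (R := R) (k • q₀) ∉ x.asHomogeneousIdeal := fun x hx => by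
    rw [← mon_pow]; exact pow_notMem (Gr n R) hx k
  have hd' : (i : ℤ) = (k • q₀).degree + d := by rw [map_nsmul, smul_eq_mul, Nat.cast_mul, hd]
  rw [psi_eq hpos ⟨i, m, k • q₀, hq, hm, hd', rfl, fun x => (hv x (pow_notMem (Gr n R) x.2 k)).trans
      (fracAt_congr (Gr n R) x.1 _ _ rfl (mon_pow q₀ k))⟩]
  refine toL_mul_T_mem hm _ hd' fun j hj => ?_
  simp only [Set.mem_setOf_eq, not_lt, nonpos_iff_eq_zero] at hj
  simp [hj]

theorem psi_range {q₀ : Fin (n + 1) →₀ ℕ} (hpos : 0 < q₀.degree) {z : L n R}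
    (hz : z ∈ allowedSub R d {j | 0 < q₀ j}) : ∃ σ : Γ(Od n R d, Dm q₀), psi hpos σ = z := by
  obtain ⟨N, hN⟩ := exists_polynomial_of_mem hz q₀ fun j hj => hj
  obtain ⟨i, m, hm, hmz, hdeg⟩ := hN N le_rfl
  rcases hdeg with hdeg | rfl
  · have hq : ∀ x ∈ Dm q₀, mon (R := R) (N • q₀) ∉ x.asHomogeneousIdeal := fun x hx => by
      rw [← mon_pow]; exact pow_notMem (Gr n R) hx N
    refine ⟨secOf (Gr n R) (Gr n R) (show m ∈ Gr n R i from hm) (mon_mem (N • q₀)) hq hdeg,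
      psi_eq hpos ⟨i, m, N • q₀, hq, hm, hdeg, ?_, fun x => rfl⟩⟩
    rw [hmz, mul_assoc, T_mul, add_neg_cancel, T_zero, mul_one]
  · exact ⟨0, map_zero _⟩

end Groth.Agent.H10Coh.Pn
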