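import Groth.Agent.H10Coh.Pn.Results
import Groth.Agent.H10Coh.Pn.Alt
import Groth.Agent.H10Coh.Pn.Classes
import Groth.Agent.H10Coh.LerayNat

/-!
# Top cohomology of `O(d)` on `P^(p+1)`, linearly
-/

universe u

open CategoryTheory CategoryTheory.Limits AlgebraicGeometry TopologicalSpace Opposite MvPolynomial
open Groth.Agent.H15Site Groth.Agent.H11Tilde

namespace Groth.Agent.H10Coh.Pn

attribute [local instance 10000] hasSheafifyAb hasWeakSheafifyAb hasExtAb enoughInjAb

variable {n p : ℕ} {R : Type u} [CommRing R] {d : ℤ}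

/-- Multiplication by a constant on `O(d)`. -/
noncomputable def smC (n : ℕ) (R : Type u) [CommRing R] (d : ℤ) (r : R) : sh (Od n R d) ⟶ sh (Od n R d) :=
  Coh.smulAb (Od n R d) (show Coh.Γtop (Proj (Gr n R)) from constΓ r)

theorem smC_app (r : R) (W : (Proj (Gr n R)).Opens) (σ : Γ(Od n R d, W)) :
    ((smC n R d r).hom.app (op W)).hom σ =
      ((Proj (Gr n R)).presheaf.map (homOfLE (le_top : W ≤ ⊤)).op (constΓ r) • σ : Γ(Od n R d, W)) :=
  rfl

theorem psiA_smul {q : ℕ} (a : Fin (q + 1) → ULift.{u} (Fin (n + 1))) (r : R)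
    (σ : (Od n R d).presheaf.obj (op (CechTop.cap (X := (Proj (Gr n R)).toTopCat) (Us n R) a))) :
    psiA a (((smC n R d r).hom.app (op (CechTop.cap (X := (Proj (Gr n R)).toTopCat) (Us n R) a))).hom σ) =
      r • psiA a σ := by
  change psi (degree_qa_pos (ULift.down ∘ a)) (CechTop.res (Od n R d).presheaf (Dm_qa a).le _) =
    r • psi (degree_qa_pos (ULift.down ∘ a)) (CechTop.res (Od n R d).presheaf (Dm_qa a).le σ)
  refine Eq.trans (congrArg _ ?_) (psi_smul (degree_qa_pos (ULift.down ∘ a)) r _)
  refine (Scheme.Modules.map_smul (Od n R d) (homOfLE (Dm_qa (R := R) a).le) _ σ).trans ?_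
  exact congrArg (fun c : Γ(Proj (Gr n R), Dm (qa (ULift.down ∘ a))) => c • _)
    (rmap_rmap _ _ _ _)

/-- The smC action on cochains. -/
noncomputable abbrev smZ (r : R) (z : CechCls.Zc (X := (Proj (Gr n R)).toTopCat) (Us n R) (Od n R d).presheaf p) :
    CechCls.Zc (X := (Proj (Gr n R)).toTopCat) (Us n R) (Od n R d).presheaf p :=
  CechCls.mapZ (Us n R) (Od n R d).presheaf (smC n R d r).hom p z

theorem coef_smZ (r : R) (z : CechCls.Zc (X := (Proj (Gr n R)).toTopCat) (Us n R) (Od n R d).presheaf p)
    (a : Fin (p + 2) → ULift.{u} (Fin (n + 1))) : coef a (smZ r z).1 = r • coef a z.1 := by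
  refine Eq.trans ?_ (psiA_smul a r _)
  exact congrArg (psiA a) (CechTop.proj_mapC (Us n R) (Od n R d).presheaf (smC n R d r).hom z.1 a)

variable (p R d)

/-- The Laurent polynomials with all exponents negative, of degree `d`. -/
noncomputable def badSub (n : ℕ) : Submodule R (L n R) where
  carrier := {z | ∀ e, z.coeff e ≠ 0 → Bad e ∧ deg e = d}
  zero_mem' := fun e he => (he (by simp)).elim
  add_mem' := fun {z w} hz hw e he => by
    by_cases h : z.coeff e = 0
    · exact hw e fun h' => he (by simp [h, h'])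
    · exact hz e h
  smul_mem' := fun r z hz e he => hz e fun h => he (by simp [h])

/-- The identity tuple. -/
def idT : Fin (p + 2) → ULift.{u} (Fin (p + 2)) := fun i => ⟨i⟩

open Classical in
/-- The bad part of a Laurent polynomial. -/
noncomputable def badPart (z : L n R) : L n R := AddMonoidAlgebra.ofCoeff (z.coeff.filter Bad)

open Classical in
theorem badPart_coeff (z : L n R) (e : Expo n) :
    (badPart R z).coeff e = if Bad e then z.coeff e else 0 := by
  rw [badPart, AddMonoidAlgebra.coeff_ofCoeff, Finsupp.filter_apply]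

/-- The residue map on top cocycles. -/
noncomputable def resid :
    CechCls.Zc (X := (Proj (Gr (p + 1) R)).toTopCat) (Us (p + 1) R) (Od (p + 1) R d).presheaf p →+
      ↥(badSub R d (p + 1)) :=
  AddMonoidHom.mk' (fun z => ⟨badPart R (coef (idT p) z.1), fun e he => by
      classical
      rw [badPart_coeff] at he
      split_ifs at he with hb
      · exact ⟨hb, (coef_mem (idT p) z.1 e he).1⟩
      · exact (he rfl).elim⟩)
    fun a b => Subtype.ext (by
      classical
      refine AddMonoidAlgebra.ext (Finsupp.ext fun e => ?_)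
      change (badPart R (coef (idT p) (a.1 + b.1))).coeff e = _
      rw [map_add]
      simp only [badPart_coeff, Submodule.coe_add, AddMonoidAlgebra.coeff_add, Finsupp.add_apply]
      split_ifs <;> simp)

theorem resid_smZ (r : R)
    (z : CechCls.Zc (X := (Proj (Gr (p + 1) R)).toTopCat) (Us (p + 1) R) (Od (p + 1) R d).presheaf p) :
    resid p R d (smZ r z) = r • resid p R d z := by
  classical
  refine Subtype.ext (AddMonoidAlgebra.ext (Finsupp.ext fun e => ?_))
  change (badPart R (coef (idT p) (smZ r z).1)).coeff e = (r • badPart R (coef (idT p) z.1)).coeff e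
  rw [coef_smZ]
  simp only [badPart_coeff, AddMonoidAlgebra.coeff_smul, Finsupp.smul_apply]
  split_ifs <;> simp

theorem resid_surjective : Function.Surjective (resid p R d) := fun z => by
  classical
  obtain ⟨x, hx⟩ := exists_coef_eq (n := p + 1) (R := R) (d := d) (p := p + 1)
    (fun a => (tupleMat (ULift.down ∘ a)).det • z.1) fun a => by
      by_cases ha : Function.Injective (ULift.down ∘ a)
      · refine (allowedSub R d _).toAddSubgroup.zsmul_mem ?_ _
        intro e he
        exact ⟨(z.2 e he).2, fun i hi => (hi (Finite.injective_iff_surjective.1 ha i)).elim⟩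
      · rw [det_tupleMat_of_not_injective ha, zero_smul]
        exact Submodule.zero_mem _
  refine ⟨⟨x, coef_ext fun c => ?_⟩, Subtype.ext (AddMonoidAlgebra.ext (Finsupp.ext fun e => ?_))⟩
  · rw [coef_d, map_zero]
    simp only [hx]
    exact isCocycle_det z.1 (ULift.down ∘ c)
  · change (badPart R (coef (idT p) x)).coeff e = z.1.coeff e
    rw [badPart_coeff, hx, show ULift.down ∘ (idT.{u} p) = id from rfl, det_tupleMat_id, one_smul]
    split_ifs with hb
    · rfl
    · by_contra h
      exact hb (z.2 e (Ne.symm h)).1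

theorem range_ne_univ (c : Fin (p + 1) → ULift.{u} (Fin (p + 2))) :
    ∃ i, i ∉ Set.range (ULift.down ∘ c) := by
  by_contra hc
  push Not at hc
  have := Fintype.card_le_of_surjective _ hc
  simp only [Fintype.card_fin] at this
  omega

theorem resid_eq_zero_iff
    (z : CechCls.Zc (X := (Proj (Gr (p + 1) R)).toTopCat) (Us (p + 1) R) (Od (p + 1) R d).presheaf p) :
    resid p R d z = 0 ↔ ∃ w, (CechTop.d (Us (p + 1) R) (Od (p + 1) R d).presheaf p).hom w = z.1 := by
  classical
  constructor
  · intro h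
    obtain ⟨w, hw⟩ := exists_cone z.1
    refine ⟨w, coef_ext fun c => AddMonoidAlgebra.ext (Finsupp.ext fun e => ?_)⟩
    by_cases he : Bad e
    · have hbad : ∀ (a : Fin (p + 1) → ULift.{u} (Fin (p + 2))), cf w a e = 0 := fun a => by
        obtain ⟨i, hi⟩ := range_ne_univ p a
        exact cf_eq_zero w fun hal => absurd (hal.2 i hi) (not_le.2 (he i))
      let g : (Fin (p + 2) → Fin (p + 2)) → R := fun a => cf z.1 (ULift.up ∘ a) e
      have hg : IsCocycle g := fun c' => by
        have h1 := cf_d z.1 (ULift.up ∘ c') e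
        rw [show (CechTop.d (Us (p + 1) R) (Od (p + 1) R d).presheaf (p + 1)).hom z.1 = 0 from z.2] at h1
        refine h1.symm.trans ?_
        simp [cf]
      have hg0 : ∀ a, ¬ Function.Injective a → g a = 0 := fun a ha => by
        obtain ⟨i, hi⟩ : ∃ i, ∀ k, a k ≠ i := by
          by_contra hh
          push Not at hh
          exact ha (Finite.injective_iff_surjective.2 hh)
        exact cf_eq_zero _ fun hal => absurd (hal.2 i (by rintro ⟨k, hk⟩; exact hi k hk)) (not_le.2 (he i))
      have hid : g id = 0 := by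
        have h2 := congrArg (fun v : ↥(badSub R d (p + 1)) => v.1.coeff e) h
        exact ((badPart_coeff R _ e).trans (if_pos he)).symm.trans h2
      have hz : cf z.1 c e = 0 := congrFun (IsCocycle.eq_zero hg hg0 hid) (ULift.down ∘ c)
      refine Eq.trans ?_ hz.symm
      refine (cf_d w c e).trans (Finset.sum_eq_zero fun j _ => ?_)
      rw [hbad, smul_zero]
    · exact cf_cone_d z.1 w hw z.2 c he
  · rintro ⟨w, hw⟩
    refine Subtype.ext (AddMonoidAlgebra.ext (Finsupp.ext fun e => ?_))
    change (badPart R (coef (idT p) z.1)).coeff e = 0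
    rw [badPart_coeff]
    split_ifs with hb
    · rw [← hw]
      refine (cf_d w (idT p) e).trans (Finset.sum_eq_zero fun j _ => ?_)
      obtain ⟨i, hi⟩ := range_ne_univ p (idT.{u} p ∘ j.succAbove)
      rw [cf_eq_zero w fun hal => absurd (hal.2 i hi) (not_le.2 (hb i)), smul_zero]
    · rfl

theorem acy_Od : LerayNat.Acy (X := (Proj (Gr n R)).toTopCat) (Us n R) (sh (Od n R d)) := fun _ a q =>
  @subsingleton_HnM_of_isAffineOpen _ (Od n R d) isQuasicoherent_Od _ (isAffineOpen_cap a) q

/-- Čech classes to Laurent residues. -/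
noncomputable def clsToBad :
    CohTop.cechH (sh (Od (p + 1) R d)).obj (Us (p + 1) R) (p + 1) ≃+ ↥(badSub R d (p + 1)) :=
  LerayNat.equivOfKer (CechCls.cls (X := (Proj (Gr (p + 1) R)).toTopCat) (Us (p + 1) R)
      (Od (p + 1) R d).presheaf p) (resid p R d) (CechCls.cls_surjective _ _ p) (resid_surjective p R d)
    (AddSubgroup.ext fun z => (CechCls.cls_eq_zero_iff _ _ p z).trans (resid_eq_zero_iff p R d z).symm)

theorem clsToBad_cls
    (z : CechCls.Zc (X := (Proj (Gr (p + 1) R)).toTopCat) (Us (p + 1) R) (Od (p + 1) R d).presheaf p) :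
    clsToBad p R d (CechCls.cls (X := (Proj (Gr (p + 1) R)).toTopCat) (Us (p + 1) R)
      (Od (p + 1) R d).presheaf p z) = resid p R d z :=
  LerayNat.equivOfKer_apply _ _ _ _ _ z

/-- Leray's isomorphism for the standard covering. -/
noncomputable def lerayPn (n q : ℕ) (R : Type u) [CommRing R] :
    LerayNat.Lv (X := (Proj (Gr n R)).toTopCat) (Us n R) ⊤ q :=
  LerayNat.lv (X := (Proj (Gr n R)).toTopCat) (U := Us n R) (V := ⊤) (fun _ => le_top) iSup_Us.ge q

/-- The top cohomology, additively. -/
noncomputable def topEquivBad : HnM (Od (p + 1) R d) (p + 1) ⊤ ≃+ ↥(badSub R d (p + 1)) :=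
  ((lerayPn (p + 1) (p + 1) R).e (sh (Od (p + 1) R d)) (acy_Od R d)).symm.trans (clsToBad p R d)

theorem topEquivBad_e (y : CohTop.cechH (sh (Od (p + 1) R d)).obj (Us (p + 1) R) (p + 1)) :
    topEquivBad p R d ((lerayPn (p + 1) (p + 1) R).e (sh (Od (p + 1) R d)) (acy_Od R d) y) =
      clsToBad p R d y := by
  rw [topEquivBad, AddEquiv.trans_apply, AddEquiv.symm_apply_apply]

theorem topEquivBad_smC (r : R) (x : HnM (Od (p + 1) R d) (p + 1) ⊤) :
    topEquivBad p R d (LerayNat.hmap (smC (p + 1) R d r) (p + 1) ⊤ x) = r • topEquivBad p R d x := by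
  obtain ⟨y, rfl⟩ := ((lerayPn (p + 1) (p + 1) R).e (sh (Od (p + 1) R d)) (acy_Od R d)).surjective x
  rw [← (lerayPn (p + 1) (p + 1) R).nat (smC (p + 1) R d r) (acy_Od R d) (acy_Od R d) y,
    topEquivBad_e, topEquivBad_e]
  obtain ⟨z, rfl⟩ := CechCls.cls_surjective (X := (Proj (Gr (p + 1) R)).toTopCat) (Us (p + 1) R)
    (Od (p + 1) R d).presheaf p y
  refine (congrArg (clsToBad p R d) (CechCls.cls_mapZ (Us (p + 1) R) (Od (p + 1) R d).presheaf
    (smC (p + 1) R d r).hom p z)).trans ?_
  refine (clsToBad_cls p R d _).trans ((resid_smZ p R d r z).trans ?_)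
  exact congrArg (r • ·) (clsToBad_cls p R d z).symm

/-- Top cohomology on the prelude's group, linearly. -/
noncomputable def HHtopBad :
    letI : (Proj (Gr (p + 1) R)).Over (Spec (CommRingCat.of R)) := ⟨toS (p + 1) R⟩
    Coh.HH (Proj (Gr (p + 1) R)) (Od (p + 1) R d) (p + 1) →ₗ[R] ↥(badSub R d (p + 1)) :=
  letI : (Proj (Gr (p + 1) R)).Over (Spec (CommRingCat.of R)) := ⟨toS (p + 1) R⟩
  { toFun := fun x => topEquivBad p R d (HHEquiv _ (p + 1) x)
    map_add' := fun a b => by rw [map_add, map_add]
    map_smul' := fun r x => by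
      refine (congrArg (topEquivBad p R d) ((topEquiv_map (smC (p + 1) R d r) (p + 1) x).trans
        (LerayNat.hmap_apply _ _ _ _).symm)).trans ?_
      exact topEquivBad_smC p R d r _ }

theorem HHtopBad_bijective : Function.Bijective (HHtopBad p R d) :=
  (topEquivBad p R d).bijective.comp (HHEquiv _ (p + 1)).bijective

end Groth.Agent.H10Coh.Pn
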